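import Groth.Agent.MultSubFTLib.Univ
import Groth.Agent.MultSubFTLib.Conj

/-!
Families with an image of multiplicative type and their points in the scheme of subgroups.
-/

set_option autoImplicit false
set_option backward.isDefEq.respectTransparency false
set_option linter.style.haveILetI false
set_option synthInstance.maxHeartbeats 400000

noncomputable section

universe u

open CategoryTheory CategoryTheory.Limits MonoidalCategory CartesianMonoidalCategory AlgebraicGeometry
open scoped MonObj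

attribute [-instance] CategoryTheory.Hom.commGroup

namespace MultSubQuotLib

open MultSubLib (Tri famTri FamMono)
open MultSubFTLib (MM pc VP uu conjFam lift_conjFam fT)
open Groth.Agent.RedRank (homOf isMonHom_homOf)

variable {S : Scheme.{u}} {G H : Over S} [GrpObj G] [GrpObj H] [IsAffineHom G.hom] [Smooth G.hom]
  {V : Tri G.left (MM G).left} (hV : ∀ k : MultSubFTLib.Kp.{u}, Tri.Same (VP G k) (V.pull (uu G k).left))

include hV

theorem exists_cls (hH : SGA3x.IsMultTypeFT H) {X : Over S} (ψ : H ⊗ X ⟶ G)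
    (hψ : AutFam.IsHomFamily H G ψ) (hm : FamMono ψ) :
    ∃ v : X ⟶ MM G, Tri.Same (famTri ψ hψ hm) (V.pull v.left) := by
  haveI := isMonHom_homOf hψ
  haveI := MultSubFTLib.mono_homOf hψ hm
  obtain ⟨v, hv⟩ := MultSubFTLib.exists_classifying hV X.hom (homOf ψ)
    (Groth.Agent.DescHom.isMultTypeFT_bc hH X.hom) (famTri ψ hψ hm)
    ⟨Iso.refl _, Category.id_comp _, (Category.id_comp _).trans (MultSubLib.homOf_left_fst ψ).symm⟩
  exact ⟨Over.homMk v.left (Over.w v), hv⟩

theorem cls_eq_iff {H' : Over S} [GrpObj H'] {X : Over S} {ψ : H ⊗ X ⟶ G} {hψ : AutFam.IsHomFamily H G ψ}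
    {hm : FamMono ψ} {ψ' : H' ⊗ X ⟶ G} {hψ' : AutFam.IsHomFamily H' G ψ'} {hm' : FamMono ψ'} {v v' : X ⟶ MM G}
    (hv : Tri.Same (famTri ψ hψ hm) (V.pull v.left)) (hv' : Tri.Same (famTri ψ' hψ' hm') (V.pull v'.left)) :
    v = v' ↔ Tri.Same (famTri ψ hψ hm) (famTri ψ' hψ' hm') :=
  ⟨fun e => hv.trans ((Tri.Same.pull_congr (congrArg CommaMorphism.left e) V).trans hv'.symm),
    fun h => MultSubFTLib.eq_of_same hV v v' (hv.symm.trans (h.trans hv'))⟩

omit hV [IsAffineHom G.hom] [Smooth G.hom] in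
theorem cls_comp [IsAffineHom G.hom] [Smooth G.hom] {V : Tri G.left (MM G).left} {X T : Over S} {ψ : H ⊗ X ⟶ G}
    {hψ : AutFam.IsHomFamily H G ψ} {hm : FamMono ψ} {v : X ⟶ MM G}
    (hv : Tri.Same (famTri ψ hψ hm) (V.pull v.left)) (a : T ⟶ X) :
    Tri.Same (famTri ((H ◁ a) ≫ ψ) (RepDescLib.isHomFamily_comp _ _ a hψ) (hm.comp a)) (V.pull (a ≫ v).left) :=
  (MultSubLib.famTri_pull ψ hψ hm a).trans ((hv.pull a.left).trans (Tri.pull_pull _ _ V))

theorem cls_piece {k : MultSubFTLib.Kp.{u}} {X : Over S} (x : X ⟶ (pc G k).P) :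
    Tri.Same (fT (pc G k) x) (V.pull (x ≫ uu G k).left) :=
  (MultSubFTLib.fT_pull (pc G k) x).trans (((hV k).pull x.left).trans (Tri.pull_pull _ _ V))

end MultSubQuotLib
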