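import Groth.Agent.MultSubQuotLib.Quot
import Groth.Agent.MonoQuotLib.QuotGrp
import Groth.Agent.S5248
import Groth.Agent.S5249

/-!
The quotient of the normalizer of a subgroup of multiplicative type by its centralizer.
-/

set_option autoImplicit false
set_option backward.isDefEq.respectTransparency false
set_option linter.style.haveILetI false
set_option synthInstance.maxHeartbeats 400000

noncomputable section

universe u

open CategoryTheory CategoryTheory.Limits MonoidalCategory CartesianMonoidalCategory AlgebraicGeometry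
open scoped MonObj

attribute [-instance] CategoryTheory.Hom.commGroup

namespace MultSubQuotLib

variable {S : Scheme.{u}}

/-- A quotient by an open subgroup has an open immersion as diagonal. -/
theorem isOpenImmersion_diagonal_of_quotient {N Z W : Over S} [GrpObj N] [GrpObj Z] (f : Z ⟶ N)
    [IsOpenImmersion f.left] (q : N ⟶ W) [Flat q.left] [Surjective q.left] [QuasiCompact q.left]
    (sq : IsPullback (fst N Z) ((N ◁ f) ≫ μ[N]) q q) : IsOpenImmersion (pullback.diagonal W.hom) := by
  let shear : N ⊗ N ≅ N ⊗ N :=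
    { hom := lift (fst N N) (fst N N * snd N N)
      inv := lift (fst N N) ((fst N N)⁻¹ * snd N N)
      hom_inv_id := by
        refine CartesianMonoidalCategory.hom_ext _ _ ?_ ?_ <;> simp [MonObj.comp_mul, GrpObj.comp_inv]
      inv_hom_id := by
        refine CartesianMonoidalCategory.hom_ext _ _ ?_ ?_ <;> simp [MonObj.comp_mul] }
  let d : N ⊗ Z ⟶ N ⊗ N := (N ◁ f) ≫ shear.hom
  haveI : IsOpenImmersion d.left := by
    haveI : IsOpenImmersion (N ◁ f).left := by
      rw [Over.whiskerLeft_left]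
      exact Scheme.pullback_map_isOpenImmersion _ _ _ _ _ _ _ _ _
    haveI : IsIso shear.hom.left := ((Over.forget S).mapIso shear).isIso_hom
    rw [Over.comp_left]
    infer_instance
  have h1 : d ≫ fst N N = fst N Z := by simp [d, shear]
  have h2 : d ≫ snd N N = (N ◁ f) ≫ μ[N] := by
    simp only [d, shear, Category.assoc, lift_snd]
    rw [MonObj.mul_eq_mul]
  have sqL : IsPullback (fst N Z).left ((N ◁ f) ≫ μ[N]).left q.left q.left := sq.map (Over.forget S)
  let top := pullback.map q.left q.left (q.left ≫ W.hom) (q.left ≫ W.hom) (𝟙 N.left) (𝟙 N.left) W.hom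
    (Category.id_comp _).symm (Category.id_comp _).symm
  let e' := pullback.congrHom (Over.w q) (Over.w q)
  have htop : sqL.isoPullback.hom ≫ top ≫ e'.hom = d.left := by
    refine pullback.hom_ext ?_ ?_
    · simp only [top, e', pullback.congrHom_hom, pullback.map, Category.assoc, pullback.lift_fst, Category.comp_id]
      rw [IsPullback.isoPullback_hom_fst, ← h1]
      rfl
    · simp only [top, e', pullback.congrHom_hom, pullback.map, Category.assoc, pullback.lift_snd, Category.comp_id]
      rw [IsPullback.isoPullback_hom_snd, ← h2]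
      rfl
  have htop' : IsOpenImmersion top := by
    rw [← MorphismProperty.cancel_left_of_respectsIso @IsOpenImmersion sqL.isoPullback.hom,
      ← MorphismProperty.cancel_right_of_respectsIso @IsOpenImmersion _ e'.hom, Category.assoc, htop]
    infer_instance
  refine MorphismProperty.of_isPullback_of_descendsAlong (P := @IsOpenImmersion)
    (Q := @Surjective ⊓ @Flat ⊓ @QuasiCompact) (pullback_map_diagonal_isPullback q.left q.left W.hom).flip
    ⟨⟨?_, ?_⟩, ?_⟩ htop'
  · exact MorphismProperty.pullbackMap (P := @Surjective) inferInstance inferInstance rfl rfl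
  · exact MorphismProperty.pullbackMap (P := @Flat) inferInstance inferInstance rfl rfl
  · exact MorphismProperty.pullbackMap (P := @QuasiCompact) inferInstance inferInstance rfl rfl

/-- The normalizer of a subgroup of multiplicative type is quasi-compact over the base. -/
theorem quasiCompact_normalizer {G H N : Over S} [GrpObj G] [GrpObj H] [GrpObj N] [Smooth G.hom] [IsAffineHom G.hom]
    (hH : SGA3x.IsMultTypeFT H) (i : H ⟶ G) [IsMonHom i] [Mono i] {n : N ⟶ G} (hn : Red.IsNormalizerOf i n) :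
    QuasiCompact N.hom := by
  obtain ⟨N₀, _, j₀, hj₀, hcl, -⟩ := Groth.Agent.S5248.result H G hH inferInstance inferInstance i
  obtain ⟨a, ha⟩ := (hj₀.2.2 N n).2 ((hn.2.2 N n).1 ⟨𝟙 N, Category.id_comp n⟩)
  obtain ⟨b, hb⟩ := (hn.2.2 N₀ j₀).2 ((hj₀.2.2 N₀ j₀).1 ⟨𝟙 N₀, Category.id_comp j₀⟩)
  haveI := hn.2.1
  haveI := hj₀.2.1
  haveI : IsIso a := ⟨b, by rw [← cancel_mono n, Category.assoc, hb, ha, Category.id_comp],
    by rw [← cancel_mono j₀, Category.assoc, ha, hb, Category.id_comp]⟩
  haveI : IsIso a.left := inferInstanceAs (IsIso ((Over.forget S).map a))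
  haveI := hcl
  rw [← Over.w a, ← Over.w j₀]
  infer_instance

variable {G H : Over S} [GrpObj G] [GrpObj H] (i : H ⟶ G) [IsMonHom i]

omit [GrpObj H] [IsMonHom i] in
/-- The centralizer is normal in the normalizer. -/
theorem isNormalHom_centralizer {Z N : Over S} [GrpObj Z] [GrpObj N] {j : Z ⟶ G} {k : N ⟶ G}
    (hj : Red.IsCentralizerOf i j) (hk : Red.IsNormalizerOf i k) (f : Z ⟶ N) (hf : f ≫ k = j) :
    AlgGrp.IsNormalHom f := by
  intro T g z
  haveI := hk.1
  haveI := hk.2.1
  have hc := (hj.2.2 T (z ≫ j)).1 ⟨z, rfl⟩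
  have hn := (hk.2.2 T (g ≫ k)).1 ⟨g, rfl⟩
  have e0 : (g * (z ≫ f) * g⁻¹) ≫ k = (g ≫ k) * (z ≫ j) * (g ≫ k)⁻¹ := by
    rw [MonObj.mul_comp, MonObj.mul_comp, GrpObj.inv_comp, Category.assoc, hf]
  obtain ⟨z', hz'⟩ := (hj.2.2 T ((g ≫ k) * (z ≫ j) * (g ≫ k)⁻¹)).2 fun X x h => by
    obtain ⟨-, h', eh⟩ := hn X x h
    simp only [MonObj.comp_mul, GrpObj.comp_inv]
    have ec := hc X x h'
    rw [← eh] at ec
    calc (x ≫ g ≫ k) * (x ≫ z ≫ j) * (x ≫ g ≫ k)⁻¹ * (h ≫ i)
        = (x ≫ g ≫ k) * ((x ≫ z ≫ j) * ((x ≫ g ≫ k)⁻¹ * (h ≫ i) * (x ≫ g ≫ k))) * (x ≫ g ≫ k)⁻¹ := by group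
      _ = (x ≫ g ≫ k) * (((x ≫ g ≫ k)⁻¹ * (h ≫ i) * (x ≫ g ≫ k)) * (x ≫ z ≫ j)) * (x ≫ g ≫ k)⁻¹ := by rw [ec]
      _ = (h ≫ i) * ((x ≫ g ≫ k) * (x ≫ z ≫ j) * (x ≫ g ≫ k)⁻¹) := by group
  refine ⟨z', ?_⟩
  rw [← cancel_mono k, e0, ← hz', Category.assoc, hf]

variable [IsAffineHom G.hom] [Smooth G.hom] [Mono i]

/-- The quotient of the normalizer by the centralizer is a separated etale quasi-compact group. -/
theorem exists_weyl (hH : SGA3x.IsMultTypeFT H) {Z N : Over S} [GrpObj Z] [GrpObj N] {j : Z ⟶ G} {k : N ⟶ G}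
    (hj : Red.IsCentralizerOf i j) (hk : Red.IsNormalizerOf i k) (f : Z ⟶ N) [IsMonHom f] (hf : f ≫ k = j) :
    ∃ (W : Over S) (_ : GrpObj W) (q : N ⟶ W) (_ : IsMonHom q), RedSub.IsQuotient f q ∧
      IsSeparated W.hom ∧ Etale W.hom ∧ QuasiCompact W.hom := by
  haveI := hk.1
  haveI := hk.2.1
  haveI := hj.2.1
  obtain ⟨A⟩ := nonempty_quot_centralizer hH i hj
  obtain ⟨B⟩ := nonempty_quot_normalizer hH i hk
  haveI := A.smooth_q
  haveI := A.isQuotient.1
  haveI := B.smooth_q
  haveI := B.sep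
  haveI := A.sep
  haveI : Smooth A.Q.hom := A.smooth
  haveI := MultSubFTLib.fpqc_of_open A.q.left A.q.left.isOpenMap
  obtain ⟨π, hπ, -⟩ := RepDescLib.hom_descend A.q B.q fun T a b e => by
    obtain ⟨z, hz⟩ := (A.iff a b).1 e
    exact (B.iff a b).2 ⟨z ≫ f, by rw [Category.assoc, hf, hz]⟩
  haveI : Smooth π.left := by
    haveI : Smooth (A.q.left ≫ π.left) := by rw [← Over.comp_left, hπ]; infer_instance
    exact FlatLib.smooth_of_fppf_comp A.q.left π.left
  haveI : IsSeparated π.left := by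
    haveI : IsSeparated (π.left ≫ B.Q.hom) := by rw [Over.w π]; infer_instance
    exact IsSeparated.of_comp π.left B.Q.hom
  let o : 𝟙_ (Over S) ⟶ B.Q := η[G] ≫ B.q
  let W : Over S := Over.mk (pullback.snd π.left o.left)
  have hm : pullback.fst π.left o.left ≫ A.Q.hom = pullback.snd π.left o.left := by
    rw [← Over.w π, pullback.condition_assoc, Over.w o]
    exact Category.comp_id _
  let m : W ⟶ A.Q := Over.homMk (pullback.fst π.left o.left) hm
  haveI : Mono m := ⟨fun {T} c d e => Over.OverMorphism.ext (pullback.hom_ext (congrArg CommaMorphism.left e)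
    ((Over.w c).trans (Over.w d).symm))⟩
  have hone : ∀ T : Over S, (1 : T ⟶ G) ≫ B.q = toUnit T ≫ o := fun T => by
    rw [Hom.one_def, Category.assoc]
  have hmo : m ≫ π = toUnit W ≫ o := Over.OverMorphism.ext (by
    show pullback.fst π.left o.left ≫ π.left = (toUnit W).left ≫ o.left
    rw [pullback.condition]
    exact congrArg (· ≫ o.left) ((Category.comp_id _).symm.trans (Over.w (toUnit W))).symm)
  have hw : (k ≫ A.q).left ≫ π.left = N.hom ≫ o.left := by
    rw [← Over.comp_left, Category.assoc, hπ]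
    have h0 : k ≫ B.q = toUnit N ≫ o := by
      rw [← hone, B.iff]
      exact ⟨(𝟙 N)⁻¹, by rw [GrpObj.inv_comp, Category.id_comp, mul_one]⟩
    rw [h0, Over.comp_left]
    exact congrArg (· ≫ o.left) ((Category.comp_id _).symm.trans (Over.w (toUnit N)))
  let qW : N ⟶ W := Over.homMk (pullback.lift (k ≫ A.q).left N.hom hw) (pullback.lift_snd _ _ _)
  have hqW : qW ≫ m = k ≫ A.q := Over.OverMorphism.ext (pullback.lift_fst _ _ _)
  have sqW : IsPullback qW k m A.q := by
    refine IsPullback.mk ⟨hqW⟩ ?_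
    have hz : ∀ s : PullbackCone m A.q, ∃ z : s.pt ⟶ N, z ≫ k = s.snd := fun s => by
      have e : s.snd ≫ B.q = (1 : s.pt ⟶ G) ≫ B.q := by
        rw [← hπ, ← Category.assoc, ← s.condition, Category.assoc, hmo, ← Category.assoc, hπ, hone,
          toUnit_unique (s.fst ≫ toUnit W) (toUnit s.pt)]
      obtain ⟨z, hz⟩ := (B.iff _ _).1 e
      exact ⟨z⁻¹, by rw [GrpObj.inv_comp, hz, mul_one, inv_inv]⟩
    choose z hz using hz
    refine ⟨PullbackCone.IsLimit.mk _ z (fun s => ?_) hz (fun s g _ h2 => ?_)⟩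
    · rw [← cancel_mono m, Category.assoc, hqW, ← Category.assoc, hz, s.condition]
    · rw [← cancel_mono k, hz, h2]
  have sqL : IsPullback qW.left k.left m.left A.q.left := sqW.map (Over.forget S)
  haveI : Smooth qW.left := MorphismProperty.of_isPullback (P := @Smooth) sqL.flip inferInstance
  haveI : Surjective qW.left := MorphismProperty.of_isPullback (P := @Surjective) sqL.flip inferInstance
  have hiff : ∀ {T : Over S} (a b : T ⟶ N), a ≫ qW = b ≫ qW ↔ ∃ z : T ⟶ Z, z ≫ f = a⁻¹ * b := by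
    intro T a b
    rw [← cancel_mono m, Category.assoc, Category.assoc, hqW, ← Category.assoc, ← Category.assoc, A.iff,
      ← GrpObj.inv_comp, ← MonObj.mul_comp]
    refine exists_congr fun z => ?_
    rw [← hf, ← Category.assoc, cancel_mono]
  haveI : Mono f := mono_of_mono_fac hf
  have sq : IsPullback (fst N Z) ((N ◁ f) ≫ μ[N]) qW qW := isPullback_of_iff f qW hiff
  obtain ⟨f₀, hf₀, hf₀o, -⟩ :=
    Groth.Agent.S5249.result H G Z N hH inferInstance inferInstance i j k hj hk
  haveI : IsOpenImmersion f.left := by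
    rw [show f = f₀ from (cancel_mono k).1 (hf.trans hf₀.symm)]
    exact hf₀o
  haveI hsW : Smooth W.hom := MorphismProperty.pullback_snd (P := @Smooth) _ _ inferInstance
  haveI hsep : IsSeparated W.hom := MorphismProperty.pullback_snd (P := @IsSeparated) _ _ inferInstance
  haveI : QuasiCompact (qW.left ≫ W.hom) := by
    rw [Over.w qW]
    exact quasiCompact_normalizer hH i hk
  haveI : QuasiCompact qW.left := QuasiCompact.of_comp qW.left W.hom
  have hqc : QuasiCompact W.hom := ThickeningLib.quasiCompact_of_comp_surjective qW.left W.hom inferInstance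
  haveI := isOpenImmersion_diagonal_of_quotient f qW sq
  haveI : FormallyUnramified W.hom := inferInstance
  have het : Etale W.hom := Etale.of_formallyUnramified_of_flat W.hom
  obtain ⟨gW, hg⟩ := Groth.Agent.MonoQuot.exists_grpObj_quotient (Groth.Agent.MonoQuot.IsCov.of_fppf qW.left)
    (isNormalHom_centralizer i hj hk f hf) sq
  exact ⟨W, gW, qW, hg, ⟨inferInstance, inferInstance, inferInstance, sq⟩, hsep, het, hqc⟩

end MultSubQuotLib
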