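import Groth.Agent.MultSubQuotLib.OrbitClosed
import Groth.Agent.MultSubQuotLib.Weyl
import Groth.Agent.MultSubFTLib.Density
import Groth.Agent.MultSubFTLib.Levels
import Groth.Agent.PowEtCentralLib.Split
import Groth.Agent.PowEtCentralLib.Transport
import Groth.Agent.RedCharZeroLib.TorusSplit
import Groth.Agent.ChevLib.Main
import Groth.Agent.S0082
import Groth.Agent.S5247
import Groth.Agent.DiagRepLib.Split

/-!
Quotients by centralizers and normalizers of subgroups of multiplicative type over a field are affine.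
-/

set_option autoImplicit false
set_option backward.isDefEq.respectTransparency false
set_option linter.style.haveILetI false
set_option synthInstance.maxHeartbeats 400000

noncomputable section

universe u

open CategoryTheory CategoryTheory.Limits MonoidalCategory CartesianMonoidalCategory AlgebraicGeometry
open scoped MonObj

attribute [-instance] CategoryTheory.Hom.commGroup

namespace MultSubQuotLib

open MultSubLib (dd tw lift_tw)
open MultSubFTLib (conjFam lift_conjFam lev lpi)

variable {S : Scheme.{u}}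

/-- A covering whose fibres are the cosets of a subgroup. -/
structure IsCosetMap {G N Q : Over S} [GrpObj G] (n : N ⟶ G) (q : G ⟶ Q) : Prop where
  flat : Flat q.left
  surj : Surjective q.left
  lfp : LocallyOfFinitePresentation q.left
  iff : ∀ {T : Over S} (a b : T ⟶ G), a ≫ q = b ≫ q ↔ ∃ z : T ⟶ N, z ≫ n = a⁻¹ * b

theorem IsCosetMap.of_isQuotient {G N Q : Over S} [GrpObj G] {n : N ⟶ G} {q : G ⟶ Q}
    (h : RedSub.IsQuotient n q) : IsCosetMap n q where
  flat := h.2.1
  surj := h.1
  lfp := h.2.2.1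
  iff a b := by
    rw [Groth.Agent.MonoQuot.coset_iff h.2.2.2]
    exact exists_congr fun z => eq_inv_mul_iff_mul_eq.symm

theorem IsCosetMap.of_iso_subgroup {G N N' Q : Over S} [GrpObj G] {n : N ⟶ G} {n' : N' ⟶ G} {q : G ⟶ Q}
    (h : IsCosetMap n q) (hnn : ∀ {T : Over S} (g : T ⟶ G), (∃ z, z ≫ n = g) ↔ ∃ z, z ≫ n' = g) :
    IsCosetMap n' q :=
  ⟨h.flat, h.surj, h.lfp, fun a b => (h.iff a b).trans (hnn _)⟩

theorem IsCosetMap.isAffine {G N Q Q' : Over S} [GrpObj G] {n : N ⟶ G} {q : G ⟶ Q} {q' : G ⟶ Q'}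
    (h : IsCosetMap n q) (h' : IsCosetMap n q') [IsAffine Q.left] : IsAffine Q'.left := by
  haveI := h.flat
  haveI := h.surj
  haveI := h.lfp
  haveI := h'.flat
  haveI := h'.surj
  haveI := h'.lfp
  haveI := MultSubFTLib.fpqc_of_open q.left q.left.isOpenMap
  haveI := MultSubFTLib.fpqc_of_open q'.left q'.left.isOpenMap
  obtain ⟨a, ha, hau⟩ := RepDescLib.hom_descend q q' fun T x y e => (h'.iff x y).2 ((h.iff x y).1 e)
  obtain ⟨b, hb, hbu⟩ := RepDescLib.hom_descend q' q fun T x y e => (h.iff x y).2 ((h'.iff x y).1 e)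
  have h1 : a ≫ b = 𝟙 Q := by
    obtain ⟨c, -, hc⟩ := RepDescLib.hom_descend q q fun T x y e => e
    refine (hc _ ?_).trans (hc _ (Category.comp_id q)).symm
    beta_reduce
    rw [← Category.assoc, ha, hb]
  have h2 : b ≫ a = 𝟙 Q' := by
    obtain ⟨c, -, hc⟩ := RepDescLib.hom_descend q' q' fun T x y e => e
    refine (hc _ ?_).trans (hc _ (Category.comp_id q')).symm
    beta_reduce
    rw [← Category.assoc, hb, ha]
  haveI : IsIso b := ⟨a, h2, h1⟩
  haveI : IsIso b.left := inferInstanceAs (IsIso ((Over.forget S).map b))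
  exact IsAffine.of_isIso b.left

theorem IsCosetMap.bc {S' : Scheme.{u}} (t : S' ⟶ S) {G N Q : Over S} [GrpObj G] {n : N ⟶ G} {q : G ⟶ Q}
    (h : IsCosetMap n q) :
    IsCosetMap (G := Red.bc t G) (N := Red.bc t N) (Q := Red.bc t Q) ((Over.pullback t).map n)
      ((Over.pullback t).map q) := by
  have hmap : ((Over.pullback t).map q).left = pullback.lift (pullback.fst G.hom t ≫ q.left) (pullback.snd G.hom t)
      (by rw [Category.assoc, Over.w q, pullback.condition]) := rfl
  have sq : IsPullback ((Over.pullback t).map q).left (pullback.fst G.hom t) (pullback.fst Q.hom t) q.left := by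
    refine IsPullback.of_bot (v₂₁ := pullback.snd Q.hom t) (v₂₂ := Q.hom) (h₃₁ := t) ?_ ?_ ?_ |>.flip
    · rw [hmap, pullback.lift_snd, Over.w q]
      exact IsPullback.of_hasPullback G.hom t
    · rw [hmap, pullback.lift_fst]
    · exact IsPullback.of_hasPullback Q.hom t
  refine ⟨?_, ?_, ?_, fun {T} a b => ?_⟩
  · exact MorphismProperty.of_isPullback (P := @Flat) sq.flip h.flat
  · exact MorphismProperty.of_isPullback (P := @Surjective) sq.flip h.surj
  · exact MorphismProperty.of_isPullback (P := @LocallyOfFinitePresentation) sq.flip h.lfp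
  · obtain ⟨a, rfl⟩ := (PowEtCentralLib.adjEquiv t T).surjective a
    obtain ⟨b, rfl⟩ := (PowEtCentralLib.adjEquiv t T).surjective b
    rw [← map_inv, ← map_mul]
    have e : ∀ c : (Over.map t).obj T ⟶ G, PowEtCentralLib.adjEquiv t T c ≫ (Over.pullback t).map q =
        (Over.mapPullbackAdj t).homEquiv T Q (c ≫ q) := fun c =>
      (Adjunction.homEquiv_naturality_right (Over.mapPullbackAdj t) c q).symm
    rw [e, e, ((Over.mapPullbackAdj t).homEquiv T Q).injective.eq_iff, h.iff]
    constructor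
    · rintro ⟨z, hz⟩
      refine ⟨(Over.mapPullbackAdj t).homEquiv T N z, ?_⟩
      rw [← Adjunction.homEquiv_naturality_right, hz]
      rfl
    · rintro ⟨z, hz⟩
      obtain ⟨z, rfl⟩ := ((Over.mapPullbackAdj t).homEquiv T N).surjective z
      rw [← Adjunction.homEquiv_naturality_right] at hz
      exact ⟨z, ((Over.mapPullbackAdj t).homEquiv T G).injective hz⟩

/-- The centraliser commutes with base change. -/
theorem isCentralizerOf_bc {G H Z : Over S} [GrpObj G] [GrpObj H] [GrpObj Z] {i : H ⟶ G} {c : Z ⟶ G}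
    (h : Red.IsCentralizerOf i c) {P : Scheme.{u}} (p : P ⟶ S) :
    Red.IsCentralizerOf (G := Red.bc p G) (H := Red.bc p H) (Z := Red.bc p Z) ((Over.pullback p).map i)
      ((Over.pullback p).map c) := by
  obtain ⟨hc, hm, hz⟩ := h
  haveI := hc; haveI := hm
  refine ⟨Groth.Agent.DiagRep.isMonHom_bc_map p c, ?_, fun X g => ?_⟩
  · haveI : (Over.pullback p).IsRightAdjoint := (Over.mapPullbackAdj p).isRightAdjoint
    infer_instance
  obtain ⟨g₀, rfl⟩ := ((Over.mapPullbackAdj p).homEquiv X G).surjective g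
  constructor
  · rintro ⟨z, hzg⟩ X' x h'
    obtain ⟨z₀, rfl⟩ := ((Over.mapPullbackAdj p).homEquiv X Z).surjective z
    rw [← Adjunction.homEquiv_naturality_right] at hzg
    obtain ⟨h₀, rfl⟩ := ((Over.mapPullbackAdj p).homEquiv X' H).surjective h'
    rw [← Adjunction.homEquiv_naturality_left, ← Adjunction.homEquiv_naturality_right,
      ← AlgGrp.Action.homEquiv_mul, ← AlgGrp.Action.homEquiv_mul,
      (hz _ g₀).1 ⟨z₀, ((Over.mapPullbackAdj p).homEquiv X G).injective hzg⟩ _ ((Over.map p).map x) h₀]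
  · intro hall
    obtain ⟨z, hzg⟩ := (hz _ g₀).2 fun X' x h' => by
      let X'' : Over P := Over.mk (x.left ≫ X.hom)
      let ε : (Over.map p).obj X'' ⟶ X' := Over.homMk (𝟙 _) (by
        show 𝟙 _ ≫ X'.hom = (x.left ≫ X.hom) ≫ p
        rw [Category.id_comp, Category.assoc, ← Over.w x]
        rfl)
      haveI : IsIso ((Over.forget _).map ε) := inferInstanceAs (IsIso (𝟙 _))
      haveI : IsIso ε := isIso_of_reflects_iso _ (Over.forget _)
      let x₀ : X'' ⟶ X := Over.homMk x.left
      have e' : ε ≫ x = (Over.map p).map x₀ := Over.OverMorphism.ext (Category.id_comp _)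
      rw [← cancel_epi ε, MonObj.comp_mul, MonObj.comp_mul, ← Category.assoc ε x, e', ← Category.assoc]
      refine ((Over.mapPullbackAdj p).homEquiv X'' G).injective ?_
      rw [AlgGrp.Action.homEquiv_mul, AlgGrp.Action.homEquiv_mul, Adjunction.homEquiv_naturality_left,
        Adjunction.homEquiv_naturality_right]
      exact hall X'' x₀ ((Over.mapPullbackAdj p).homEquiv X'' H (ε ≫ h'))
    exact ⟨(Over.mapPullbackAdj p).homEquiv X Z z, by rw [← Adjunction.homEquiv_naturality_right, hzg]⟩

section Field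

/-- A group of multiplicative type over a field splits over a field extension. -/
theorem exists_split_field {k : Type u} [Field k] {H : Over (Spec (CommRingCat.of k))} [GrpObj H]
    (hH : SGA3x.IsMultTypeFT H) :
    ∃ (K : Type u) (_ : Field K) (t : Spec (CommRingCat.of K) ⟶ Spec (CommRingCat.of k)) (N : Type) (_ : AddCommGroup N)
      (e : Red.DS (Spec (CommRingCat.of K)) N ≅ Red.bc t H), AddGroup.FG N ∧ Flat t ∧ Surjective t ∧ IsMonHom e.hom := by
  obtain ⟨S', f, -, hsurj, -, hloc⟩ := hH
  obtain ⟨s', -⟩ := f.surjective (IsLocalRing.closedPoint k)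
  obtain ⟨U, hU, N, iN, hN, ⟨i⟩⟩ := hloc s'
  let z : (U : Scheme.{u}) := ⟨s', hU⟩
  let x : Spec (CommRingCat.of ((U : Scheme.{u}).residueField z)) ⟶ (U : Scheme.{u}) :=
    (U : Scheme.{u}).fromSpecResidueField z
  obtain ⟨e₀, he₀⟩ := RedCharZeroLib.exists_DS_bc x N
  obtain ⟨θ, hθ⟩ := RedCharZeroLib.exists_bc_comp x (U.ι ≫ f) H
  haveI := he₀
  haveI := hθ
  let i' : Red.DS (U : Scheme.{u}) N ≅ Red.bc (U.ι ≫ f) H := (Grp.forget _).mapIso i.symm
  haveI : IsMonHom i'.hom := inferInstanceAs (IsMonHom i.inv.hom.hom)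
  let e : Red.DS (Spec (CommRingCat.of ((U : Scheme.{u}).residueField z))) N ≅ Red.bc (x ≫ U.ι ≫ f) H :=
    e₀ ≪≫ (Over.pullback x).mapIso i' ≪≫ θ.symm
  refine ⟨(U : Scheme.{u}).residueField z, inferInstance, x ≫ U.ι ≫ f, N, iN, e, hN, ?_, ?_, ?_⟩
  · obtain ⟨φ, hφ⟩ := Spec.map_surjective (x ≫ U.ι ≫ f)
    rw [← hφ, HasRingHomProperty.Spec_iff (P := @Flat)]
    algebraize [φ.hom]
    exact RingHom.flat_algebraMap_iff.2 inferInstance
  · exact ⟨fun y => ⟨IsLocalRing.closedPoint _, Subsingleton.elim _ _⟩⟩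
  · haveI : IsMonHom (M := Red.bc x (Red.DS (U : Scheme.{u}) N)) (N := Red.bc x (Red.bc (U.ι ≫ f) H))
        ((Over.pullback x).map i'.hom) := Groth.Agent.DiagRep.isMonHom_bc_map x i'.hom
    haveI : IsMonHom θ.inv := inferInstance
    exact inferInstanceAs (IsMonHom (e₀.hom ≫ (Over.pullback x).map i'.hom ≫ θ.inv))

variable {K : Type u} [Field K] {G : Over (Spec (CommRingCat.of K))} [GrpObj G] [IsAffineHom G.hom]
  [Smooth G.hom]

/-- The centralizer of a diagonalizable subgroup is the centralizer of a finite level. -/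
theorem exists_level {N : Type} [AddCommGroup N] [AddGroup.FG N] (i : Red.DS (Spec (CommRingCat.of K)) N ⟶ G)
    [IsMonHom i] {Z : Over (Spec (CommRingCat.of K))} [GrpObj Z] {j : Z ⟶ G} (hj : Red.IsCentralizerOf i j) :
    ∃ (M : Type) (_ : AddCommGroup M) (_ : Finite M) (π : Multiplicative N →* Multiplicative M),
      Red.IsCentralizerOf (dd (Spec (CommRingCat.of K)) π ≫ i) j := by
  let B := Spec (CommRingCat.of K)
  let il : ∀ l : ℕ, Red.DS B (MultSubLib.NN (lev.{u} N l).down) ⟶ G := fun l => dd B (lpi.{u} N l) ≫ i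
  haveI : ∀ l : ℕ, IsMonHom (il l) := fun l => inferInstanceAs (IsMonHom (dd B (lpi.{u} N l) ≫ i))
  haveI : ∀ l : ℕ, Finite (MultSubLib.NN (lev.{u} N l).down) := fun l =>
    haveI := MultSubFTLib.finite_quotient_multiples N (n := MultSubFTLib.fac l) (Nat.factorial_pos _)
    Finite.of_equiv _ (MultSubFTLib.exists_lev.{u} N l).choose_spec.some.symm.toEquiv
  choose C hCg c hc hccl hCs using fun l : ℕ =>
    Groth.Agent.S5247.result (Red.DS B (MultSubLib.NN (lev.{u} N l).down)) G
      (PowEtCentralLib.isMultTypeFT_DS B _ (AddGroup.fg_of_finite)) inferInstance inferInstance (il l)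
  haveI := hccl
  have hmono : ∀ l m : ℕ, l ≤ m → ∃ z : C m ⟶ C l, z ≫ c l = c m := fun l m hlm => by
    obtain ⟨ρ, hρ, -⟩ := MultSubFTLib.exists_rho.{u} N hlm
    refine ((hc l).2.2 _ _).2 fun X x h => ?_
    have e : il l = dd B ρ ≫ il m := by
      show dd B (lpi.{u} N l) ≫ i = dd B ρ ≫ dd B (lpi.{u} N m) ≫ i
      rw [← Category.assoc, MultSubLib.dd_comp_dd, hρ]
    rw [e, ← Category.assoc h]
    exact ((hc m).2.2 _ _).1 ⟨𝟙 _, Category.id_comp _⟩ X x (h ≫ dd B ρ)
  haveI : IsAffine G.left := isAffine_of_isAffineHom G.hom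
  haveI : IsLocallyNoetherian G.left := LocallyOfFiniteType.isLocallyNoetherian G.hom
  haveI : IsNoetherianRing Γ(G.left, ⊤) := IsLocallyNoetherian.component_noetherian ⟨⊤, isAffineOpen_top G.left⟩
  let I : ℕ →o Ideal Γ(G.left, ⊤) :=
    ⟨fun l => Scheme.IdealSheafData.equivOfIsAffine (c l).left.ker, fun l m hlm => by
      obtain ⟨z, hz⟩ := hmono l m hlm
      have hle : (c l).left.ker ≤ (c m).left.ker := by
        rw [← hz, Over.comp_left]
        exact Scheme.Hom.le_ker_comp _ _
      exact hle _⟩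
  obtain ⟨L, hL⟩ := monotone_stabilizes_iff_noetherian.2 inferInstance I
  have hback : ∀ m : ℕ, ∃ z : C L ⟶ C m, z ≫ c m = c L := fun m => by
    rcases le_total m L with h | h
    · exact hmono m L h
    · have e : (c m).left.ker = (c L).left.ker := (Scheme.IdealSheafData.equivOfIsAffine (X := G.left)).injective
        (hL m h).symm
      exact ⟨Over.homMk (IsClosedImmersion.lift (c m).left (c L).left e.le) (by
        rw [← Over.w (c m), IsClosedImmersion.lift_fac_assoc, Over.w]), Over.OverMorphism.ext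
          (IsClosedImmersion.lift_fac _ _ _)⟩
  haveI : IsAffine (C L).left := isAffine_of_isAffineHom (c L).left
  let pC := (C L).left.isoSpec.inv ≫ (C L).hom
  let τ : Over.mk pC ≅ C L := Over.isoMk (C L).left.isoSpec.symm rfl
  let T := Over.mk pC
  let g : T ⟶ G := τ.hom ≫ c L
  have hg : conjFam g (iX i T) = iX i T := by
    refine MultSubFTLib.ext_of_restrictions pC (fun l : ℕ => MultSubLib.NN (lev.{u} N l).down) (fun l => lpi.{u} N l)
      (MultSubFTLib.exists_injOn_lpi.{u} N) fun l => ext_pts fun Y h t => ?_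
    rw [lift_tw, lift_tw, lift_conjFam, lift_iX]
    obtain ⟨z, hz⟩ := hback l
    have hcomm := ((hc l).2.2 T g).1 ⟨τ.hom ≫ z, by rw [Category.assoc, hz]⟩ Y t h
    simp only [il, ← Category.assoc h] at hcomm
    rw [hcomm, mul_inv_cancel_right]
  obtain ⟨z₀, hz₀⟩ := (hj.2.2 T g).2 fun X x h => by
    have e := congrArg (lift h x ≫ ·) hg
    simp only [lift_conjFam, lift_iX] at e
    exact mul_inv_eq_iff_eq_mul.1 e
  refine ⟨MultSubLib.NN (lev.{u} N L).down, inferInstance, inferInstance, lpi.{u} N L, hj.1, hj.2.1, fun X g' => ?_⟩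
  constructor
  · rintro ⟨z, rfl⟩ X' x h
    rw [← Category.assoc h]
    exact (hj.2.2 _ _).1 ⟨z, rfl⟩ X' x (h ≫ dd _ _)
  · intro h
    obtain ⟨y, hy⟩ := ((hc L).2.2 X g').2 h
    exact ⟨y ≫ τ.inv ≫ z₀, by rw [Category.assoc, Category.assoc, hz₀, Iso.inv_hom_id_assoc, hy]⟩

end Field

variable {k : Type u} [Field k] {G H : Over (Spec (CommRingCat.of k))} [GrpObj G] [GrpObj H] [IsAffineHom G.hom]
  [Smooth G.hom] (i : H ⟶ G) [IsMonHom i]

/-- The quotient by the centralizer is affine. -/
theorem isAffine_quot_centralizer (hH : SGA3x.IsMultTypeFT H) {C Q : Over (Spec (CommRingCat.of k))} [GrpObj C]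
    {c : C ⟶ G} (hc : Red.IsCentralizerOf i c) {q : G ⟶ Q} (hq : IsCosetMap c q) : IsAffine Q.left := by
  obtain ⟨K, _, t, N, _, e, hN, hfl, hsu, he⟩ := exists_split_field hH
  haveI := hN
  haveI := he
  let B := Spec (CommRingCat.of K)
  let G' := Red.bc t G
  haveI : Smooth G'.hom := MorphismProperty.pullback_snd (P := @Smooth) _ _ ‹_›
  haveI : IsAffineHom G'.hom := MorphismProperty.pullback_snd (P := @IsAffineHom) _ _ ‹_›
  haveI : IsMonHom (M := Red.bc t H) (N := G') ((Over.pullback t).map i) := Groth.Agent.DiagRep.isMonHom_bc_map t i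
  let i' : Red.DS B N ⟶ G' := e.hom ≫ (Over.pullback t).map i
  haveI : IsMonHom i' := inferInstanceAs (IsMonHom (e.hom ≫ (Over.pullback t).map i))
  have hc' := isCentralizerOf_bc hc t
  have hj : Red.IsCentralizerOf (G := G') (H := Red.DS B N) (Z := Red.bc t C) i' ((Over.pullback t).map c) := by
    refine ⟨hc'.1, hc'.2.1, fun X g => (hc'.2.2 X g).trans ⟨fun h X' x k' => ?_, fun h X' x k' => ?_⟩⟩
    · rw [← Category.assoc k']
      exact h X' x (k' ≫ e.hom)
    · have := h X' x (k' ≫ e.inv)
      simpa [i'] using this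
  obtain ⟨M, _, _, π, hπ⟩ := exists_level i' hj
  haveI := PowEtCentralLib.isFinite_DS B M
  haveI : IsMonHom (dd B π ≫ i') := inferInstance
  obtain ⟨Q₁, q₁, haff, hsm, hsurj, hiff⟩ :=
    exists_affine_orbit (PowEtCentralLib.isMultTypeFT_DS B M AddGroup.fg_of_finite) hπ
  haveI := hsm
  have h1 : IsCosetMap ((Over.pullback t).map c) q₁ := ⟨inferInstance, hsurj, inferInstance, hiff⟩
  haveI := haff
  haveI : IsAffine (Red.bc t Q).left := h1.isAffine (hq.bc t)
  haveI : IsAffineHom (Red.bc t Q).hom := isAffineHom_of_isAffine _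
  haveI := Groth.Agent.S0082.result.{u}
  haveI : IsAffineHom t := isAffineHom_of_isAffine _
  haveI : IsAffineHom Q.hom := MorphismProperty.of_pullback_snd_of_descendsAlong (P := @IsAffineHom)
    (Q := @Surjective ⊓ @Flat ⊓ @QuasiCompact) (f := Q.hom) (g := t) ⟨⟨hsu, hfl⟩, inferInstance⟩
    (inferInstanceAs (IsAffineHom (Red.bc t Q).hom))
  exact isAffine_of_isAffineHom Q.hom

/-- The quotient by the normalizer is affine. -/
theorem isAffine_quot_normalizer [Mono i] (hH : SGA3x.IsMultTypeFT H) {C N Q : Over (Spec (CommRingCat.of k))}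
    [GrpObj C] [GrpObj N] {c : C ⟶ G} {n : N ⟶ G} (hc : Red.IsCentralizerOf i c) (hn : Red.IsNormalizerOf i n)
    {q : G ⟶ Q} (hq : IsCosetMap n q) : IsAffine Q.left := by
  haveI := hc.1
  haveI := hn.1
  haveI := hn.2.1
  obtain ⟨f, hf, -, -⟩ := Groth.Agent.S5249.result H G C N hH inferInstance inferInstance i c n hc hn
  haveI : IsMonHom f := Groth.Agent.RedRank.isMonHom_of_mul _ fun T a b => by
    rw [← cancel_mono n, Category.assoc, hf, MonObj.mul_comp, MonObj.mul_comp, Category.assoc, Category.assoc, hf]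
  obtain ⟨W, _, w, _, hw, -, het, hqc⟩ := exists_weyl i hH hc hn f hf
  obtain ⟨A⟩ := nonempty_quot_centralizer hH i hc
  obtain ⟨B⟩ := nonempty_quot_normalizer hH i hn
  have hA := IsCosetMap.of_isQuotient A.isQuotient
  have hB := IsCosetMap.of_isQuotient B.isQuotient
  haveI : IsAffine A.Q.left := isAffine_quot_centralizer i hH hc hA
  haveI := A.smooth_q
  haveI := A.isQuotient.1
  haveI := B.smooth_q
  haveI := B.isQuotient.1
  haveI := B.sep
  haveI := MultSubFTLib.fpqc_of_open A.q.left A.q.left.isOpenMap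
  obtain ⟨π, hπ, -⟩ := RepDescLib.hom_descend A.q B.q fun T a b e => by
    obtain ⟨z, hz⟩ := (A.iff a b).1 e
    exact (B.iff a b).2 ⟨z ≫ f, by rw [Category.assoc, hf, hz]⟩
  have hw' := IsCosetMap.of_isQuotient hw
  haveI := hw'.flat
  haveI := hw'.surj
  haveI := hw'.lfp
  let gw : G ⊗ N ⟶ G ⊗ W := G ◁ w
  haveI : Flat gw.left := by
    show Flat (G ◁ w).left
    rw [Over.whiskerLeft_left]
    exact MorphismProperty.pullbackMap (P := @Flat) inferInstance inferInstance (Category.id_comp _).symm (Over.w w).symm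
  haveI : Surjective gw.left := by
    show Surjective (G ◁ w).left
    rw [Over.whiskerLeft_left]
    exact MorphismProperty.pullbackMap (P := @Surjective) inferInstance inferInstance (Category.id_comp _).symm (Over.w w).symm
  haveI : LocallyOfFinitePresentation gw.left := by
    show LocallyOfFinitePresentation (G ◁ w).left
    rw [Over.whiskerLeft_left]
    exact MorphismProperty.pullbackMap (P := @LocallyOfFinitePresentation) inferInstance inferInstance (Category.id_comp _).symm (Over.w w).symm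
  haveI := MultSubFTLib.fpqc_of_open gw.left gw.left.isOpenMap
  let m : G ⊗ N ⟶ G := (G ◁ n) ≫ μ[G]
  have hm : ∀ {T : Over (Spec (CommRingCat.of k))} (a : T ⟶ G ⊗ N), a ≫ m = (a ≫ fst G N) * (a ≫ snd G N ≫ n) := by
    intro T a
    simp only [m, MonObj.mul_eq_mul, MonObj.comp_mul, whiskerLeft_fst, whiskerLeft_snd]
  obtain ⟨β, hβ, -⟩ := RepDescLib.hom_descend gw (m ≫ A.q) fun T a b e => by
    have e1 : a ≫ fst G N = b ≫ fst G N := by
      simpa [gw] using congrArg (· ≫ fst G W) e
    have e2 : (a ≫ snd G N) ≫ w = (b ≫ snd G N) ≫ w := by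
      simpa [gw] using congrArg (· ≫ snd G W) e
    obtain ⟨z, hz⟩ := (hw'.iff _ _).1 e2
    rw [← Category.assoc a m, ← Category.assoc b m, hm, hm, A.iff, e1]
    refine ⟨z, ?_⟩
    rw [← hf, ← Category.assoc, hz, MonObj.mul_comp, GrpObj.inv_comp, Category.assoc, Category.assoc]
    group
  have hβπ : β ≫ π = fst G W ≫ B.q := by
    obtain ⟨d, -, hd⟩ := RepDescLib.hom_descend gw (gw ≫ fst G W ≫ B.q) fun T a b e => by
      rw [← Category.assoc a, ← Category.assoc b, e]
    refine (hd _ ?_).trans (hd _ rfl).symm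
    beta_reduce
    rw [← Category.assoc, hβ, Category.assoc, hπ]
    have : gw ≫ fst G W = fst G N := whiskerLeft_fst _ _
    rw [← Category.assoc gw, this, B.iff]
    refine ⟨(snd G N)⁻¹, ?_⟩
    have h0 := hm (𝟙 (G ⊗ N))
    simp only [Category.id_comp] at h0
    rw [h0, GrpObj.inv_comp]
    group
  let θ : (G ⊗ W).left ⟶ pullback π.left B.q.left := pullback.lift β.left (fst G W).left
    (congrArg CommaMorphism.left hβπ)
  have sqN := (isPullback_of_iff n B.q fun a b => B.iff a b).flip
  have sqL : IsPullback m.left (fst G N).left B.q.left B.q.left := sqN.map (Over.forget _)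
  have hπl : A.q.left ≫ π.left = B.q.left := congrArg CommaMorphism.left hπ
  haveI : Surjective θ := by
    have e : gw.left ≫ θ = sqL.isoPullback.hom ≫ pullback.map B.q.left B.q.left π.left B.q.left A.q.left (𝟙 _) (𝟙 _)
        (by rw [Category.comp_id, hπl]) (by simp) := by
      refine pullback.hom_ext ?_ ?_
      · simp only [θ, Category.assoc, pullback.lift_fst, pullback.map]
        rw [IsPullback.isoPullback_hom_fst_assoc]
        exact congrArg CommaMorphism.left hβ
      · simp only [θ, Category.assoc, pullback.lift_snd, pullback.map, Category.comp_id,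
          IsPullback.isoPullback_hom_snd]
        exact congrArg CommaMorphism.left (whiskerLeft_fst G w)
    haveI : Surjective (pullback.map B.q.left B.q.left π.left B.q.left A.q.left (𝟙 _) (𝟙 _)
        (by rw [Category.comp_id, hπl]) (by simp)) :=
      MorphismProperty.pullbackMap (P := @Surjective) inferInstance inferInstance hπl.symm (Category.id_comp _).symm
    haveI : Surjective (gw.left ≫ θ) := by rw [e]; infer_instance
    exact Surjective.of_comp gw.left θ
  haveI : IsFinite W.hom := by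
    haveI := het
    haveI := hqc
    haveI : LocallyQuasiFinite W.hom := AlgSpLib.locallyQuasiFinite_of_etale W.hom
    exact IsFinite.of_locallyQuasiFinite W.hom
  haveI : UniversallyClosed (θ ≫ pullback.snd π.left B.q.left) := by
    rw [pullback.lift_snd]
    haveI : IsFinite (fst G W).left := MorphismProperty.pullback_fst (P := @IsFinite) G.hom W.hom ‹_›
    infer_instance
  haveI : UniversallyClosed (pullback.snd π.left B.q.left) := UniversallyClosed.of_comp_surjective θ _
  haveI : QuasiCompact B.q.left := by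
    haveI : QuasiCompact (B.q.left ≫ B.Q.hom) := by rw [Over.w B.q]; infer_instance
    exact QuasiCompact.of_comp B.q.left B.Q.hom
  haveI : UniversallyClosed π.left := MorphismProperty.of_pullback_snd_of_descendsAlong (P := @UniversallyClosed)
    (Q := @Surjective ⊓ @Flat ⊓ @QuasiCompact) (f := π.left) (g := B.q.left)
    ⟨⟨inferInstance, inferInstance⟩, inferInstance⟩ inferInstance
  haveI : Surjective π.left := by
    haveI : Surjective (A.q.left ≫ π.left) := by rw [hπl]; infer_instance
    exact Surjective.of_comp A.q.left π.left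
  haveI : IsAffine B.Q.left := ChevLib.isAffine_of_surjective_universallyClosed π.left
  exact hB.isAffine hq

end MultSubQuotLib
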