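import Groth.Agent.MultSubFTLib.Glue
import Groth.Agent.HomRepLib.Main
import Groth.Agent.MiscFlat6.QAffFpqc
import Groth.Agent.RichLib.IndQuasiAffine
import Groth.Agent.S1402
import Groth.Agent.BootLib.SepSigma

/-!
The scheme of homomorphisms and the scheme of subgroups of multiplicative type are ind-quasi-affine.
-/

set_option autoImplicit false
set_option backward.isDefEq.respectTransparency false
set_option linter.style.haveILetI false
set_option synthInstance.maxHeartbeats 400000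

noncomputable section

universe u

open CategoryTheory CategoryTheory.Limits MonoidalCategory CartesianMonoidalCategory AlgebraicGeometry
open scoped MonObj

attribute [-instance] CategoryTheory.Hom.commGroup

namespace MultSubQuotLib

open DescLib (indQA)
open Groth.Agent.HomRep (exists_rep_piece indQA_sigmaMap' effective_indQA prop_of_isPullback_fpqc
  isSeparated_of_isPullback_fpqc SplitCover)

theorem indQA_of_isPullback_fpqc {X' Y' Y Z : Scheme.{u}} {g' : X' ⟶ Z} {f' : X' ⟶ Y'} {f : Z ⟶ Y} {p : Y' ⟶ Y}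
    [DescLib.Fpqc p] (sq : IsPullback g' f' f p) (h : indQA f') : indQA f := by
  refine (RichLib.QA.indQA_iff f).2 fun V hV U hUV hU => ?_
  obtain ⟨m, a, W, o, b, -, -, hob, haff, hfl, hsurj, hqc⟩ :=
    DescLib.exists_affine_refinement (DescLib.Fpqc.memOfArrows p) hV
  haveI := hfl
  haveI := hsurj
  haveI := hqc
  let o' : ∐ W ⟶ Y' := Limits.Sigma.desc o
  let b' : ∐ W ⟶ V.toScheme := Limits.Sigma.desc b
  have w : o' ≫ p = b' ≫ V.ι :=
    Sigma.hom_ext _ _ fun k => by simp only [o', b', Sigma.ι_desc_assoc, hob k]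
  have sq₂ : IsPullback (pullback.fst (f ∣_ V) b' ≫ (f ⁻¹ᵁ V).ι) (pullback.snd (f ∣_ V) b') f (o' ≫ p) := by
    rw [w]
    exact (IsPullback.of_hasPullback _ _).paste_horiz (isPullback_morphismRestrict _ _).flip
  have sq₁ : IsPullback (pullback.fst f' o' ≫ g') (pullback.snd f' o') f (o' ≫ p) :=
    (IsPullback.of_hasPullback f' o').paste_horiz sq
  have h2 : indQA (pullback.snd (f ∣_ V) b') := by
    rw [← sq₂.isoPullback_hom_snd, ← sq₁.isoPullback_inv_snd]
    exact (indQA.cancel_left_of_respectsIso _ _).2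
      ((indQA.cancel_left_of_respectsIso _ _).2 (MorphismProperty.pullback_snd _ _ h))
  have h3 := MiscFlat6.indQA_descends (IsPullback.of_hasPullback (f ∣_ V) b') h2
  haveI : IsAffine V.toScheme := hV
  let U' := (f ⁻¹ᵁ V).ι ⁻¹ᵁ U
  have hU' : (f ⁻¹ᵁ V).ι ''ᵁ U' = U := by
    rw [Scheme.Hom.image_preimage_eq_opensRange_inf, Scheme.Opens.opensRange_ι, inf_eq_right.mpr hUV]
  have hc : IsCompact (U' : Set (f ⁻¹ᵁ V).toScheme) := by
    rw [(f ⁻¹ᵁ V).ι.isOpenEmbedding.isEmbedding.isCompact_iff]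
    have : (f ⁻¹ᵁ V).ι.base '' (U' : Set (f ⁻¹ᵁ V).toScheme) = (U : Set Z) := congrArg SetLike.coe hU'
    rwa [this]
  haveI := (RichLib.QA.indQA_iff _).1 h3 ⊤ (isAffineOpen_top V.toScheme) U' (fun _ _ => trivial) hc
  rw [← hU']
  exact RichLib.QA.isQuasiAffine_of_iso ((f ⁻¹ᵁ V).ι.isoImage U').inv

/-- The scheme of homomorphisms out of a group of multiplicative type, with ind-quasi-affineness. -/
theorem exists_hom_scheme {S : Scheme.{u}} (H G : Over S) [GrpObj H] [GrpObj G] (hH : SGA3x.IsMultTypeFT H)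
    (hG : Smooth G.hom) (hGa : IsAffineHom G.hom) :
    ∃ (A : Over S) (υ : H ⊗ A ⟶ G), AutFam.RepresentsHom H G A υ ∧ Smooth A.hom ∧ IsSeparated A.hom ∧
      MoreMor.IsIndQuasiAffineHom A.hom := by
  obtain ⟨S', f, hf, hs', hcov, hloc⟩ := hH
  obtain ⟨C⟩ := @Groth.Agent.HomRep.nonempty_splitCover_of_fpqc _ H _ S' f hf hs' hcov fun s => by
    obtain ⟨U, hU, M, i, -, h⟩ := hloc s
    exact ⟨U, hU, M, i, h⟩
  have hF := RepDescLib.isSheaf_homSec H G
  choose X v hv hs hsep hq using fun i =>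
    haveI := C.hw i
    exists_rep_piece H G (C.p i) (C.w i)
  obtain ⟨A', π', u', hrep, e, he⟩ := RepDescLib.isRepOver_sigma hF
    (P := fun i => Over.mk (C.p i)) (A := fun i => (Over.map (C.p i)).obj (X i))
    (fun i => (Over.homMk (X i).hom : (Over.map (C.p i)).obj (X i) ⟶ Over.mk (C.p i))) v hv
  haveI : DescLib.Fpqc (Over.mk (Limits.Sigma.desc fun i => (Over.mk (C.p i)).hom)).hom := C.cover
  let q := Limits.Sigma.map fun i => (X i).hom
  have hπ : π'.left = e.hom ≫ q := he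
  have hiq : MoreMor.IsIndQuasiAffineHom π'.left := by
    rw [hπ]
    exact (indQA.cancel_left_of_respectsIso e.hom q).2 (indQA_sigmaMap' _ hq)
  obtain ⟨A₀, u₀, c, hA, -, sq⟩ := RepDescLib.exists_rep_of_cover hF hrep fun D hD =>
    effective_indQA D (by rw [hD]; exact hiq)
  have hloc' : ∀ (P : MorphismProperty Scheme.{u}) [IsZariskiLocalAtTarget P], (∀ i, P (X i).hom) → P π'.left := by
    intro P _ hP
    rw [hπ]
    refine (P.cancel_left_of_respectsIso e.hom q).2 ?_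
    exact DescLib.property_sigmaMap P _ hP
  refine ⟨A₀, u₀.1, RepDescLib.representsHom_of_rep H G u₀ hA, ?_, ?_, indQA_of_isPullback_fpqc sq hiq⟩
  · exact prop_of_isPullback_fpqc @Smooth sq (hloc' @Smooth hs)
  · exact isSeparated_of_isPullback_fpqc sq (hloc' @IsSeparated hsep)

theorem indQA_sigmaDesc {κ : Type u} {S : Scheme.{u}} {Y : κ → Scheme.{u}} (f : ∀ i, Y i ⟶ S)
    (h : ∀ i, indQA (f i)) : indQA (Limits.Sigma.desc f) := by
  let d : (∐ fun _ : κ => S) ⟶ S := Limits.Sigma.desc fun _ => 𝟙 S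
  have e : Limits.Sigma.desc f = Limits.Sigma.map f ≫ d := Sigma.hom_ext _ _ fun i => by simp [d]
  rw [e]
  refine RichLib.QA.indQA_comp _ _ (indQA_sigmaMap' f h) ?_
  haveI : Etale d := IsZariskiLocalAtSource.sigmaDesc fun _ => inferInstance
  haveI : IsSeparated d := Groth.Agent.Boot.isSeparated_sigmaDesc fun _ => 𝟙 S
  haveI : LocallyQuasiFinite d := AlgSpLib.locallyQuasiFinite_of_etale d
  exact Groth.Agent.S1402.result d

variable {S : Scheme.{u}} {G : Over S} [GrpObj G] [IsAffineHom G.hom] [Smooth G.hom]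

open MultSubFTLib (Piece jU PU gg SameP gl) in
theorem indQA_quot {N : Type} [AddCommGroup N] [AddGroup.FG N] (p : Piece G N) (Q : MultSubFTLib.PQ G p)
    (hsQ : IsSeparated Q.Q.hom) :
    indQA Q.Q.hom := by
  haveI := Q.etale
  haveI := Q.surj
  have hmm : indQA (MultSubLib.MM G).hom := by
    refine indQA_sigmaDesc _ fun k => ?_
    haveI := (MultSubLib.pc G k).affine
    exact RichLib.QA.indQA_of_qa _ ⟨inferInstance, fun V hV => by
      haveI : IsAffine ((MultSubLib.pc G k).M.hom ⁻¹ᵁ V).toScheme := hV.preimage _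
      infer_instance⟩
  refine (RichLib.QA.indQA_iff _).2 fun V hV U hUV hU => ?_
  let O : ULift.{u} ℕ → Q.Q.left.Opens := fun l =>
    ⟨Q.c.left '' (MultSubFTLib.Ul p l.down : Set p.P.left), Q.c.left.isOpenMap _ (MultSubFTLib.Ul p l.down).2⟩
  obtain ⟨t, ht⟩ := hU.elim_finite_subcover (fun l => (O l : Set Q.Q.left)) (fun l => (O l).2) (fun z _ => by
    obtain ⟨x, rfl⟩ := Q.c.left.surjective z
    obtain ⟨l, hl⟩ := MultSubFTLib.exists_mem_Ul p x
    exact Set.mem_iUnion.2 ⟨⟨l⟩, x, hl, rfl⟩)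
  let L := t.sup fun l => l.down
  have hUL : U ≤ O ⟨L⟩ := fun z hz => by
    obtain ⟨l, hl, x, hx, rfl⟩ := Set.mem_iUnion₂.1 (ht hz)
    exact ⟨x, MultSubFTLib.Ul_mono p (Finset.le_sup (f := fun l : ULift.{u} ℕ => l.down) hl) hx, rfl⟩
  let QO : Over S := Over.mk ((O ⟨L⟩).ι ≫ Q.Q.hom)
  have hle : MultSubFTLib.Ul p L ≤ Q.c.left ⁻¹ᵁ O ⟨L⟩ := fun x hx => ⟨x, hx, rfl⟩
  let cO : PU p L ⟶ QO := Over.homMk (Q.c.left.resLE (O ⟨L⟩) (MultSubFTLib.Ul p L) hle) (by
    show Q.c.left.resLE (O ⟨L⟩) (MultSubFTLib.Ul p L) hle ≫ (O ⟨L⟩).ι ≫ Q.Q.hom = (MultSubFTLib.Ul p L).ι ≫ p.P.hom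
    rw [Scheme.Hom.resLE_comp_ι_assoc, Over.w])
  have hcO : cO.left ≫ (O ⟨L⟩).ι = (MultSubFTLib.Ul p L).ι ≫ Q.c.left := Scheme.Hom.resLE_comp_ι _ _
  haveI : Etale cO.left := inferInstanceAs (Etale (Q.c.left.resLE (O ⟨L⟩) (MultSubFTLib.Ul p L) hle))
  haveI : Surjective cO.left := ⟨fun z => by
    obtain ⟨x, hx, hz⟩ := z.2
    refine ⟨⟨x, hx⟩, (O ⟨L⟩).ι.isOpenEmbedding.injective ?_⟩
    show (cO.left ≫ (O ⟨L⟩).ι) ⟨x, hx⟩ = z.1
    rw [hcO]
    exact hz⟩
  haveI := MultSubFTLib.fpqc_of_open cO.left cO.left.isOpenMap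
  obtain ⟨g, hg, -⟩ := RepDescLib.hom_descend cO (jU p L ≫ gg p L) fun T a b e => by
    rw [← Category.assoc, ← Category.assoc]
    refine MultSubFTLib.gg_eq_of_sameP p ((Q.rel _ _ _).1 (Over.OverMorphism.ext ?_)) L
    have e' : (a.left ≫ cO.left) ≫ (O ⟨L⟩).ι = (b.left ≫ cO.left) ≫ (O ⟨L⟩).ι :=
      congrArg (· ≫ (O ⟨L⟩).ι) (congrArg CommaMorphism.left e)
    rw [Category.assoc, Category.assoc, hcO] at e'
    exact (Category.assoc _ _ _).trans (e'.trans (Category.assoc _ _ _).symm)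
  haveI : Etale (cO.left ≫ g.left) := by
    rw [← Over.comp_left, hg]
    exact MultSubFTLib.etale_gg p L
  haveI : Etale g.left := FlatLib.etale_of_fppf_comp cO.left g.left
  haveI : IsSeparated (g.left ≫ (MultSubLib.MM G).hom) := by
    rw [Over.w g]
    exact inferInstanceAs (IsSeparated ((O ⟨L⟩).ι ≫ Q.Q.hom))
  haveI : IsSeparated g.left := IsSeparated.of_comp g.left (MultSubLib.MM G).hom
  haveI : LocallyQuasiFinite g.left := AlgSpLib.locallyQuasiFinite_of_etale g.left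
  have h1 : indQA QO.hom := by
    rw [← Over.w g]
    exact RichLib.QA.indQA_comp _ _ (Groth.Agent.S1402.result g.left) hmm
  let U' := (O ⟨L⟩).ι ⁻¹ᵁ U
  have hU' : (O ⟨L⟩).ι ''ᵁ U' = U := by
    rw [Scheme.Hom.image_preimage_eq_opensRange_inf, Scheme.Opens.opensRange_ι, inf_eq_right.mpr hUL]
  haveI := (RichLib.QA.indQA_iff _).1 h1 V hV U' (fun x hx => hUV hx) (by
    rw [(O ⟨L⟩).ι.isOpenEmbedding.isEmbedding.isCompact_iff]
    have : (O ⟨L⟩).ι.base '' (U' : Set _) = (U : Set Q.Q.left) := congrArg SetLike.coe hU'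
    rwa [this])
  rw [← hU']
  exact RichLib.QA.isQuasiAffine_of_iso ((O ⟨L⟩).ι.isoImage U').inv

theorem indQA_MM : indQA (MultSubFTLib.MM G).hom :=
  indQA_sigmaDesc _ fun k => indQA_quot (MultSubFTLib.pc G k) (MultSubFTLib.pq G k) (by
    haveI := MultSubFTLib.isOpenImmersion_jM G k
    haveI := MultSubFTLib.separated_MM G
    rw [← Over.w (MultSubFTLib.jM G k)]
    infer_instance)

end MultSubQuotLib
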