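import Groth.Agent.MultSubQuotLib.Classify
import Groth.Agent.MultSubQuotLib.IndQA
import Groth.Agent.MultSubFTLib.Restrict
import Groth.Agent.Thickening.Basic
import Groth.Prelude.Def_RedSub
import Groth.Prelude.Def_Mor2

/-!
Orbit maps of a subgroup of multiplicative type into the scheme of homomorphisms and the scheme of subgroups.
-/

set_option autoImplicit false
set_option backward.isDefEq.respectTransparency false
set_option linter.style.haveILetI false
set_option synthInstance.maxHeartbeats 400000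

noncomputable section

universe u

open CategoryTheory CategoryTheory.Limits MonoidalCategory CartesianMonoidalCategory AlgebraicGeometry
open scoped MonObj

attribute [-instance] CategoryTheory.Hom.commGroup

namespace MultSubQuotLib

open MultSubLib (Tri famTri FamMono)
open MultSubFTLib (MM pc VP uu conjFam lift_conjFam PtsLE)
open Groth.Agent.RedRank (homOf isMonHom_homOf comp_homOf proj pobj piso piso_hom_comp bcEquiv_lift)
open Groth.Agent.HomRep (bcEquiv bcEquiv_mul)

variable {S : Scheme.{u}}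

/-- The pullback square of a map whose fibres are the cosets of a subgroup. -/
theorem isPullback_of_iff {G N Q : Over S} [GrpObj G] [GrpObj N] (n : N ⟶ G) [Mono n] (q : G ⟶ Q)
    (hiff : ∀ {T : Over S} (a b : T ⟶ G), a ≫ q = b ≫ q ↔ ∃ z : T ⟶ N, z ≫ n = a⁻¹ * b) :
    IsPullback (fst G N) ((G ◁ n) ≫ μ[G]) q q := by
  have hμ : (G ◁ n) ≫ μ[G] = fst G N * (snd G N ≫ n) := by
    rw [MonObj.mul_eq_mul, MonObj.comp_mul]
    simp
  rw [hμ]
  have w : fst G N ≫ q = (fst G N * (snd G N ≫ n)) ≫ q :=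
    (hiff _ _).2 ⟨snd G N, by rw [inv_mul_cancel_left]⟩
  have hz : ∀ s : PullbackCone q q, ∃ z : s.pt ⟶ N, z ≫ n = s.fst⁻¹ * s.snd :=
    fun s => (hiff _ _).1 s.condition
  choose z hz using hz
  refine IsPullback.mk ⟨w⟩ ⟨PullbackCone.IsLimit.mk _ (fun s => lift s.fst (z s)) (fun s => lift_fst _ _)
    (fun s => ?_) (fun s m' h1 h2 => ?_)⟩
  · rw [MonObj.comp_mul, lift_fst, lift_snd_assoc, hz, mul_inv_cancel_left]
  · refine CartesianMonoidalCategory.hom_ext _ _ (by rw [lift_fst]; exact h1) ?_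
    rw [lift_snd, ← cancel_mono n, hz, Category.assoc, eq_inv_mul_iff_mul_eq, ← h2, MonObj.comp_mul]
    exact congrArg (· * (m' ≫ snd G N ≫ n)) h1.symm

/-- A smooth orbit map gives a quotient. -/
theorem exists_quotient_of_orbit {G N X : Over S} [GrpObj G] [GrpObj N] (n : N ⟶ G) [Mono n]
    [Smooth G.hom] [QuasiCompact G.hom] [IsSeparated X.hom] (hX : MoreMor.IsIndQuasiAffineHom X.hom) (q : G ⟶ X)
    [Smooth q.left] (hiff : ∀ {T : Over S} (a b : T ⟶ G), a ≫ q = b ≫ q ↔ ∃ z : T ⟶ N, z ≫ n = a⁻¹ * b) :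
    ∃ (Q : Over S) (q' : G ⟶ Q) (m : Q ⟶ X), RedSub.IsQuotient n q' ∧ Smooth q'.left ∧ Smooth Q.hom ∧
      Mor2.IsQuasiAffine Q.hom ∧ IsOpenImmersion m.left ∧ q' ≫ m = q := by
  let U : X.left.Opens := ⟨Set.range q.left, q.left.isOpenMap.isOpen_range⟩
  let Q : Over S := Over.mk (U.ι ≫ X.hom)
  have hr : Set.range q.left ⊆ Set.range U.ι := by
    rw [Scheme.Opens.range_ι]
    exact subset_rfl
  let q₀ : G.left ⟶ (U : Scheme.{u}) := IsOpenImmersion.lift U.ι q.left hr
  have hq₀ : q₀ ≫ U.ι = q.left := IsOpenImmersion.lift_fac _ _ _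
  let q' : G ⟶ Q := Over.homMk q₀ (by
    show q₀ ≫ U.ι ≫ X.hom = G.hom
    rw [← Category.assoc, hq₀, Over.w q])
  let m : Q ⟶ X := Over.homMk U.ι rfl
  have hm : q' ≫ m = q := Over.OverMorphism.ext hq₀
  haveI : Mono m := Over.mono_of_mono_left _
  haveI : Smooth q₀ := by
    have sq : IsPullback (𝟙 G.left) q₀ q.left U.ι :=
      ⟨⟨by rw [hq₀, Category.id_comp]⟩, ⟨PullbackCone.IsLimit.mk _ (fun c => c.fst) (fun c => Category.comp_id _)
        (fun c => by rw [← cancel_mono U.ι, Category.assoc, hq₀]; exact c.condition)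
        (fun c m h1 _ => (Category.comp_id m).symm.trans h1)⟩⟩
    exact MorphismProperty.of_isPullback (P := @Smooth) sq inferInstance
  haveI : Surjective q₀ := ⟨fun z => by
    obtain ⟨x, hx⟩ := z.2
    refine ⟨x, U.ι.isOpenEmbedding.injective ?_⟩
    rw [← Scheme.Hom.comp_apply, hq₀]
    exact hx⟩
  have hsm : Smooth Q.hom := by
    haveI : Smooth (q₀ ≫ Q.hom) := by
      show Smooth (q'.left ≫ Q.hom)
      rw [Over.w q']
      infer_instance
    exact FlatLib.smooth_of_fppf_comp q₀ Q.hom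
  have hqa : Mor2.IsQuasiAffine Q.hom := by
    haveI hqc : QuasiCompact Q.hom := ThickeningLib.quasiCompact_of_comp_surjective q₀ Q.hom (by
      show QuasiCompact (q'.left ≫ Q.hom)
      rw [Over.w q']
      infer_instance)
    refine ⟨hqc, fun V hV => ?_⟩
    exact (RichLib.QA.indQA_iff _).1 (RichLib.QA.indQA_comp _ _ (RichLib.QA.indQA_of_isImmersion U.ι) hX) V hV _ le_rfl
      (QuasiCompact.isCompact_preimage (f := Q.hom) _ V.2 hV.isCompact)
  have hiff' : ∀ {T : Over S} (a b : T ⟶ G), a ≫ q' = b ≫ q' ↔ ∃ z : T ⟶ N, z ≫ n = a⁻¹ * b := fun a b => by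
    rw [← hiff, ← cancel_mono m, Category.assoc, Category.assoc, hm]
  have sq := isPullback_of_iff n q' hiff'
  exact ⟨Q, q', m, ⟨inferInstanceAs (Surjective q₀), inferInstanceAs (Flat q₀),
    inferInstanceAs (LocallyOfFinitePresentation q₀), sq⟩, inferInstanceAs (Smooth q₀), hsm, hqa,
    inferInstanceAs (IsOpenImmersion U.ι), hm⟩

variable {G H : Over S} [GrpObj G] [GrpObj H] (i : H ⟶ G)

/-- The constant family of a homomorphism. -/
def iX (X : Over S) : H ⊗ X ⟶ G := fst H X ≫ i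

theorem lift_iX {X Y : Over S} (h : Y ⟶ H) (t : Y ⟶ X) : lift h t ≫ iX i X = h ≫ i := lift_fst_assoc _ _ _

theorem isHomFamily_iX [IsMonHom i] (X : Over S) : AutFam.IsHomFamily H G (iX i X) := by
  intro Y g₁ g₂ t
  rw [lift_iX, lift_iX, lift_iX, MonObj.mul_comp]

theorem famMono_iX [IsMonHom i] [Mono i] (X : Over S) : FamMono (iX i X) := by
  intro Y t h e
  rw [lift_iX] at e
  rw [← cancel_mono i, e, MonObj.one_comp]

theorem isHomFamily_conj [IsMonHom i] {X : Over S} (a : X ⟶ G) : AutFam.IsHomFamily H G (conjFam a (iX i X)) :=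
  MultSubFTLib.isHomFamily_conjFam a (isHomFamily_iX i X)

theorem famMono_conj [IsMonHom i] [Mono i] {X : Over S} (a : X ⟶ G) : FamMono (conjFam a (iX i X)) :=
  MultSubFTLib.famMono_conjFam a (famMono_iX i X)

theorem ext_pts {X : Over S} {φ φ' : H ⊗ X ⟶ G} (h : ∀ (Y : Over S) (k : Y ⟶ H) (t : Y ⟶ X), lift k t ≫ φ = lift k t ≫ φ') :
    φ = φ' := by
  have := h _ (fst H X) (snd H X)
  rwa [lift_fst_snd, Category.id_comp, Category.id_comp] at this

theorem whisker_conj {X T : Over S} (a : T ⟶ X) (g : X ⟶ G) :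
    (H ◁ a) ≫ conjFam g (iX i X) = conjFam (a ≫ g) (iX i T) :=
  ext_pts fun Y k t => by
    rw [lift_whiskerLeft_assoc, lift_conjFam, lift_conjFam, lift_iX, lift_iX, Category.assoc]

theorem same_conj_iff [IsMonHom i] [Mono i] {N : Over S} [GrpObj N] {n : N ⟶ G} (hn : Red.IsNormalizerOf i n) {T : Over S}
    (a b : T ⟶ G) :
    Tri.Same (famTri (conjFam a (iX i T)) (isHomFamily_conj i a) (famMono_conj i a))
      (famTri (conjFam b (iX i T)) (isHomFamily_conj i b) (famMono_conj i b)) ↔ ∃ z : T ⟶ N, z ≫ n = a⁻¹ * b := by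
  rw [MultSubFTLib.same_iff_ptsLE, hn.2.2]
  simp only [PtsLE, lift_conjFam, lift_iX, MonObj.comp_mul, GrpObj.comp_inv]
  constructor
  · rintro ⟨h1, h2⟩ X x k
    obtain ⟨k₂, e₂⟩ := h1 X x k
    obtain ⟨k₁, e₁⟩ := h2 X x k
    refine ⟨⟨k₁, ?_⟩, ⟨k₂, ?_⟩⟩
    · rw [← mul_right_inj (x ≫ a), ← mul_left_inj (x ≫ a)⁻¹, e₁]
      group
    · rw [← mul_right_inj (x ≫ b), ← mul_left_inj (x ≫ b)⁻¹, e₂]
      group
  · intro h
    refine ⟨fun Y t k => ?_, fun Y t k => ?_⟩
    · obtain ⟨-, k', e⟩ := h Y t k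
      exact ⟨k', by rw [← e]; group⟩
    · obtain ⟨⟨k', e⟩, -⟩ := h Y t k
      exact ⟨k', by rw [← e]; group⟩

theorem conj_eq_iff [IsMonHom i] {Z : Over S} [GrpObj Z] {j : Z ⟶ G} (hj : Red.IsCentralizerOf i j) {T : Over S}
    (a b : T ⟶ G) : conjFam a (iX i T) = conjFam b (iX i T) ↔ ∃ z : T ⟶ Z, z ≫ j = a⁻¹ * b := by
  rw [hj.2.2]
  constructor
  · intro h X x k
    have e := congrArg (lift k x ≫ ·) h
    simp only [lift_conjFam, lift_iX] at e
    rw [MonObj.comp_mul, GrpObj.comp_inv, ← mul_right_inj (x ≫ a), ← mul_left_inj (x ≫ b)⁻¹]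
    refine Eq.trans ?_ (e.symm.trans ?_) <;> group
  · intro h
    refine ext_pts fun Y k t => ?_
    have e := h Y t k
    rw [MonObj.comp_mul, GrpObj.comp_inv] at e
    rw [lift_conjFam, lift_conjFam, lift_iX]
    calc (t ≫ a) * (k ≫ i) * (t ≫ a)⁻¹
        = (t ≫ a) * ((k ≫ i) * ((t ≫ a)⁻¹ * (t ≫ b))) * (t ≫ b)⁻¹ := by group
      _ = (t ≫ a) * (((t ≫ a)⁻¹ * (t ≫ b)) * (k ≫ i)) * (t ≫ b)⁻¹ := by rw [e]
      _ = (t ≫ b) * (k ≫ i) * (t ≫ b)⁻¹ := by group

variable [IsAffineHom G.hom] [Smooth G.hom]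

theorem smooth_orbit_hom [IsMonHom i] (hH : SGA3x.IsMultTypeFT H) {A : Over S} {υ : H ⊗ A ⟶ G}
    (hA : AutFam.RepresentsHom H G A υ) [Smooth A.hom] (q : G ⟶ A) (hq : (H ◁ q) ≫ υ = conjFam (𝟙 G) (iX i G)) :
    Smooth q.left := by
  haveI : LocallyOfFinitePresentation q.left := by
    haveI : LocallyOfFinitePresentation (q.left ≫ A.hom) := by rw [Over.w q]; infer_instance
    exact AlgSpLib.lfp_of_comp_lft q.left A.hom
  refine Groth.Agent.TorsTuple.smooth_of_lifts _ fun y => ⟨⊤, trivial, fun C _ I hI pC _ τ hτ => ?_⟩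
  let T : Over S := Over.mk (pC ≫ A.hom)
  let mkI : Spec (CommRingCat.of (C ⧸ I)) ⟶ Spec (CommRingCat.of C) := Spec.map (CommRingCat.ofHom (Ideal.Quotient.mk I))
  let a : Over.mk (mkI ≫ pC ≫ A.hom) ⟶ T := Over.homMk mkI rfl
  let v : T ⟶ A := Over.homMk pC rfl
  let X : Over (Spec (CommRingCat.of C)) := Red.bc T.hom G
  haveI : Smooth X.hom := MorphismProperty.pullback_snd (P := @Smooth) _ _ inferInstance
  let s₀ : Groth.Agent.SqLift.S₀ I ⟶ X := Over.homMk (pullback.lift τ mkI (by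
    rw [← Over.w q, ← Category.assoc, hτ, Category.assoc]
    rfl)) (pullback.lift_snd _ _ _)
  obtain ⟨s, hs⟩ := Groth.Agent.SqLift.exists_lift_sq hI s₀
  let t : T ⟶ G := Over.homMk (s.left ≫ pullback.fst G.hom T.hom) (by
    rw [Category.assoc, pullback.condition, ← Category.assoc]
    exact (congrArg (· ≫ T.hom) (Over.w s)).trans (Category.id_comp _))
  have ht : a.left ≫ t.left = τ := by
    have h1 := congrArg (fun m : Groth.Agent.SqLift.S₀ I ⟶ X => m.left ≫ pullback.fst G.hom T.hom) hs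
    have hu' : (toUnit (Groth.Agent.SqLift.S₀ I)).left = mkI :=
      (Category.comp_id _).symm.trans (Over.w (toUnit (Groth.Agent.SqLift.S₀ I)))
    simp only [Over.comp_left, Category.assoc, hu'] at h1
    exact h1.trans (pullback.lift_fst _ _ _)
  have e0 : a ≫ t ≫ q = a ≫ v := Over.OverMorphism.ext (by
    show a.left ≫ t.left ≫ q.left = mkI ≫ pC
    exact (Category.assoc _ _ _).symm.trans ((congrArg (· ≫ q.left) ht).trans hτ))
  obtain ⟨g, hg1, hg⟩ := MultSubFTLib.exists_conj_families hH I ⟨2, hI⟩ (pC ≫ A.hom)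
    (ψ := conjFam t (iX i T)) (ψ' := (H ◁ v) ≫ υ) (isHomFamily_conj i t)
    (RepDescLib.isHomFamily_comp _ _ v hA.1) a rfl (by
      rw [← whiskerLeft_comp_assoc, ← e0, whiskerLeft_comp_assoc, whiskerLeft_comp_assoc, hq, whisker_conj,
        whisker_conj, whisker_conj, Category.comp_id])
  refine ⟨(g * t).left, ?_, ?_⟩
  · have e : a ≫ (g * t) = a ≫ t := by rw [MonObj.comp_mul, hg1, _root_.one_mul]
    exact (congrArg CommaMorphism.left e).trans ht
  · have e : (g * t) ≫ q = v := by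
      obtain ⟨w, -, hu⟩ := hA.2 T ((H ◁ v) ≫ υ) (RepDescLib.isHomFamily_comp _ _ v hA.1)
      refine (hu _ ?_).trans (hu v rfl).symm
      refine ext_pts fun Y k t' => ?_
      rw [whiskerLeft_comp_assoc, hq, whisker_conj, Category.comp_id, hg Y k t', lift_conjFam, lift_conjFam, lift_conjFam,
        lift_iX, MonObj.comp_mul]
      group
    exact congrArg CommaMorphism.left e

theorem smooth_orbit_MM [IsMonHom i] [Mono i] (hH : SGA3x.IsMultTypeFT H) {V : Tri G.left (MM G).left}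
    (hV : ∀ k : MultSubFTLib.Kp.{u}, Tri.Same (VP G k) (V.pull (uu G k).left)) (q : G ⟶ MM G)
    (hq : Tri.Same (famTri (conjFam (𝟙 G) (iX i G)) (isHomFamily_conj i _) (famMono_conj i _)) (V.pull q.left)) :
    Smooth q.left := by
  haveI := (MultSubFTLib.fpqc_uu G).1
  have sqS := DescLib.isPullback_sigma (fun k : MultSubFTLib.Kp.{u} => (uu G k).left)
    (fun k => pullback.fst q.left (uu G k).left) (fun k => pullback.snd q.left (uu G k).left)
    (fun k => IsPullback.of_hasPullback q.left (uu G k).left)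
  refine Groth.Agent.HomRep.prop_of_isPullback_fpqc @Smooth sqS (DescLib.property_sigmaMap @Smooth _ fun k => ?_)
  let P := (pc G k).P
  let φ := (pc G k).φ
  let H₂ := Red.DS S (MultSubFTLib.NN k.down)
  have hi : AutFam.IsHomFamily H G (iX i P) := isHomFamily_iX i P
  haveI := isMonHom_homOf hi
  haveI := isMonHom_homOf (pc G k).hom
  haveI := MultSubFTLib.mono_homOf hi (famMono_iX i P)
  haveI := MultSubFTLib.mono_homOf (pc G k).hom (pc G k).mono
  obtain ⟨TT, j, hj, hTs, hTT⟩ := Groth.Agent.S5287.result (Red.bc P.hom H) (Red.bc P.hom H₂) (Red.bc P.hom G)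
    (Groth.Agent.DescHom.isMultTypeFT_bc hH P.hom)
    (Groth.Agent.DescHom.isMultTypeFT_bc (MultSubLib.isMultTypeFT_DS S _) P.hom)
    (MorphismProperty.pullback_snd (P := @Smooth) _ _ inferInstance)
    (MorphismProperty.pullback_snd (P := @IsAffineHom) _ _ inferInstance) (homOf (iX i P)) (homOf φ)
  haveI := hj
  haveI := hTs
  have key : ∀ (Z₀ : Over P.left) (g : Z₀ ⟶ Red.bc P.hom G),
      (∃ t, t ≫ j = g) ↔ (bcEquiv P.hom G Z₀).symm g ≫ q = proj P Z₀ ≫ uu G k := by
    intro Z₀ g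
    let T : Over S := (Over.map P.hom).obj Z₀
    let gm : T ⟶ G := (bcEquiv P.hom G Z₀).symm g
    have h1 := cls_comp hq gm
    have h2 := cls_piece hV (proj P Z₀)
    have h1' : Tri.Same (famTri (conjFam gm (iX i T)) (isHomFamily_conj i gm) (famMono_conj i gm)) (V.pull (gm ≫ q).left) :=
      (MultSubLib.famTri_congr (by rw [whisker_conj, Category.comp_id]) (isHomFamily_conj i gm) (famMono_conj i gm)
        (RepDescLib.isHomFamily_comp _ _ gm (isHomFamily_conj i _)) ((famMono_conj i _).comp gm)).trans h1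
    rw [hTT, cls_eq_iff hV h1' h2, MultSubFTLib.same_iff_ptsLE]
    have conv : ∀ (Z : Over P.left) (x : Z ⟶ Z₀) (h₁ : Z ⟶ Red.bc P.hom H),
        (x ≫ g) * (h₁ ≫ homOf (iX i P)) * (x ≫ g)⁻¹ =
          bcEquiv P.hom G Z (((Over.map P.hom).map x ≫ gm) * ((bcEquiv P.hom H Z).symm h₁ ≫ i) *
            ((Over.map P.hom).map x ≫ gm)⁻¹) := by
      intro Z x h₁
      have hx : x ≫ g = bcEquiv P.hom G Z ((Over.map P.hom).map x ≫ gm) := by
        show x ≫ g = ((Over.mapPullbackAdj P.hom).homEquiv Z G) _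
        rw [Adjunction.homEquiv_naturality_left]
        exact congrArg (x ≫ ·) ((bcEquiv P.hom G Z₀).apply_symm_apply g).symm
      rw [bcEquiv_mul, bcEquiv_mul, MultSubFTLib.bcEquiv_inv, ← hx, comp_homOf, lift_iX]
    have conv' : ∀ (Z : Over P.left) (x : Z ⟶ Z₀) (h₂ : Z ⟶ Red.bc P.hom H₂),
        h₂ ≫ homOf φ = bcEquiv P.hom G Z (lift ((bcEquiv P.hom H₂ Z).symm h₂) ((Over.map P.hom).map x) ≫
          (H₂ ◁ proj P Z₀) ≫ φ) := by
      intro Z x h₂
      rw [comp_homOf, lift_whiskerLeft_assoc, show (Over.map P.hom).map x ≫ proj P Z₀ = proj P Z from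
        Over.OverMorphism.ext (Over.w x)]
    constructor
    · intro h
      have aux : ∀ (Y : Over S) (t : Y ⟶ T), ∃ (Z : Over P.left) (x : Z ⟶ Z₀) (e : (Over.map P.hom).obj Z ≅ Y),
          e.hom ≫ t = (Over.map P.hom).map x := fun Y t =>
        ⟨pobj (t ≫ proj P Z₀), Over.homMk t.left rfl, piso _, Over.OverMorphism.ext (Category.id_comp _)⟩
      refine ⟨fun Y t k' => ?_, fun Y t k' => ?_⟩
      · obtain ⟨Z, x, e, he⟩ := aux Y t
        obtain ⟨h₂, hh⟩ := (h Z x).1 (bcEquiv P.hom H Z (e.hom ≫ k'))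
        refine ⟨e.inv ≫ (bcEquiv P.hom H₂ Z).symm h₂, ?_⟩
        rw [← cancel_epi e.hom, comp_lift_assoc, comp_lift_assoc, Iso.hom_inv_id_assoc, he]
        refine (bcEquiv P.hom G Z).injective ?_
        rw [← conv', ← hh, conv, Equiv.symm_apply_apply, lift_conjFam, lift_iX, Category.assoc]
      · obtain ⟨Z, x, e, he⟩ := aux Y t
        obtain ⟨h₁, hh⟩ := (h Z x).2 (bcEquiv P.hom H₂ Z (e.hom ≫ k'))
        refine ⟨e.inv ≫ (bcEquiv P.hom H Z).symm h₁, ?_⟩
        rw [← cancel_epi e.hom, comp_lift_assoc, comp_lift_assoc, Iso.hom_inv_id_assoc, he]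
        refine (bcEquiv P.hom G Z).injective ?_
        rw [lift_conjFam, lift_iX, ← conv, ← hh]
        refine Eq.trans ?_ ((conv' Z x _).trans (by rw [Equiv.symm_apply_apply]))
        group
    · rintro ⟨hle, hge⟩ Z x
      refine ⟨fun h₁ => ?_, fun h₂ => ?_⟩
      · obtain ⟨k', hk'⟩ := hle _ ((Over.map P.hom).map x) ((bcEquiv P.hom H Z).symm h₁)
        refine ⟨bcEquiv P.hom H₂ Z k', ?_⟩
        rw [conv, conv' Z x, Equiv.symm_apply_apply, hk', lift_conjFam, lift_iX]
      · obtain ⟨k', hk'⟩ := hge _ ((Over.map P.hom).map x) ((bcEquiv P.hom H₂ Z).symm h₂)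
        refine ⟨bcEquiv P.hom H Z k', ?_⟩
        rw [lift_conjFam, lift_iX] at hk'
        have h3 := conv Z x (bcEquiv P.hom H Z k')
        rw [Equiv.symm_apply_apply, hk', ← conv' Z x h₂] at h3
        rw [← h3]
        group
  let W : Over P.left := Over.mk (pullback.snd q.left (uu G k).left)
  let g : W ⟶ Red.bc P.hom G := Over.homMk (pullback.lift (pullback.fst q.left (uu G k).left)
    (pullback.snd q.left (uu G k).left) (by rw [← Over.w q, ← MultSubFTLib.uu_comp G k, pullback.condition_assoc]))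
    (pullback.lift_snd _ _ _)
  have hgl : ((bcEquiv P.hom G W).symm g).left = pullback.fst q.left (uu G k).left := by
    rw [MultSubLib.bcEquiv_symm_left]
    exact pullback.lift_fst _ _ _
  obtain ⟨t, ht⟩ := (key W g).2 (Over.OverMorphism.ext (by
    show ((bcEquiv P.hom G W).symm g).left ≫ q.left = pullback.snd q.left (uu G k).left ≫ (uu G k).left
    rw [hgl, pullback.condition]))
  have hj' := congrArg CommaMorphism.left ((key TT j).1 ⟨𝟙 _, Category.id_comp _⟩)
  let back : TT ⟶ W := Over.homMk (pullback.lift ((bcEquiv P.hom G TT).symm j).left TT.hom hj')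
    (pullback.lift_snd _ _ _)
  haveI : Mono g := ⟨fun {Z} c d e => Over.OverMorphism.ext (pullback.hom_ext (by
    have := congrArg (fun m : Z ⟶ Red.bc P.hom G => m.left ≫ pullback.fst G.hom P.hom) e
    simpa [g] using this) ((Over.w c).trans (Over.w d).symm))⟩
  haveI : Mono j := Over.mono_of_mono_left _
  have hb : back ≫ g = j := by
    refine Over.OverMorphism.ext (pullback.hom_ext ?_ ((Category.assoc _ _ _).trans ((congrArg (back.left ≫ ·) (Over.w g)).trans ((Over.w back).trans (Over.w j).symm))))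
    show (back.left ≫ g.left) ≫ pullback.fst G.hom P.hom = j.left ≫ pullback.fst G.hom P.hom
    rw [Category.assoc]
    show pullback.lift _ _ hj' ≫ pullback.lift _ _ _ ≫ pullback.fst G.hom P.hom = _
    rw [pullback.lift_fst, pullback.lift_fst]
    exact MultSubLib.bcEquiv_symm_left _ _ _
  haveI : IsIso t := ⟨back, by rw [← cancel_mono g, Category.assoc, hb, ht, Category.id_comp],
    by rw [← cancel_mono j, Category.assoc, ht, hb, Category.id_comp]⟩
  show Smooth W.hom
  rw [← Over.w t]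
  exact (MorphismProperty.cancel_left_of_respectsIso @Smooth t.left _).2 hTs

end MultSubQuotLib
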