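import Groth.Agent.MultSubQuotLib.Quot
import Groth.Agent.GrpFieldLib.Uniq
import Groth.Agent.S6064

/-!
Orbits in the scheme of homomorphisms out of a group of multiplicative type are open and closed over a field.
-/

set_option autoImplicit false
set_option backward.isDefEq.respectTransparency false
set_option linter.style.haveILetI false
set_option synthInstance.maxHeartbeats 400000

noncomputable section

universe u

open CategoryTheory CategoryTheory.Limits MonoidalCategory CartesianMonoidalCategory AlgebraicGeometry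
open scoped MonObj

attribute [-instance] CategoryTheory.Hom.commGroup

namespace MultSubQuotLib

open MultSubFTLib (conjFam lift_conjFam)

variable {S : Scheme.{u}} {G H : Over S} [GrpObj G] [GrpObj H] [IsAffineHom G.hom] [Smooth G.hom]

/-- The action of the group on a family of homomorphisms is smooth. -/
theorem smooth_act (hH : SGA3x.IsMultTypeFT H) {A X : Over S} {υ : H ⊗ A ⟶ G} (hA : AutFam.RepresentsHom H G A υ)
    [Smooth A.hom] (x : X ⟶ A) (α : G ⊗ X ⟶ A)
    (hα : (H ◁ α) ≫ υ = conjFam (fst G X) ((H ◁ (snd G X ≫ x)) ≫ υ)) : Smooth (lift α (snd G X)).left := by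
  let Ψ := lift α (snd G X)
  haveI : LocallyOfFinitePresentation Ψ.left := by
    haveI : Smooth (snd G X).left := MorphismProperty.pullback_snd (P := @Smooth) G.hom X.hom ‹_›
    haveI : Smooth (snd A X).left := MorphismProperty.pullback_snd (P := @Smooth) A.hom X.hom ‹_›
    have e : Ψ.left ≫ (snd A X).left = (snd G X).left := by rw [← Over.comp_left, lift_snd]
    haveI : LocallyOfFinitePresentation (Ψ.left ≫ (snd A X).left) := by rw [e]; infer_instance
    exact AlgSpLib.lfp_of_comp_lft Ψ.left (snd A X).left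
  refine Groth.Agent.TorsTuple.smooth_of_lifts _ fun y => ⟨⊤, trivial, fun C _ I hI pC _ τ hτ => ?_⟩
  let T : Over S := Over.mk (pC ≫ (A ⊗ X).hom)
  let mkI : Spec (CommRingCat.of (C ⧸ I)) ⟶ Spec (CommRingCat.of C) := Spec.map (CommRingCat.ofHom (Ideal.Quotient.mk I))
  let a : Over.mk (mkI ≫ pC ≫ (A ⊗ X).hom) ⟶ T := Over.homMk mkI rfl
  let w : T ⟶ A ⊗ X := Over.homMk pC rfl
  let τ' : Over.mk (mkI ≫ pC ≫ (A ⊗ X).hom) ⟶ G ⊗ X := Over.homMk τ (by
    show τ ≫ (G ⊗ X).hom = mkI ≫ pC ≫ (A ⊗ X).hom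
    rw [← Over.w Ψ, ← Category.assoc, hτ, Category.assoc])
  have hτ' : τ' ≫ Ψ = a ≫ w := Over.OverMorphism.ext hτ
  let v : T ⟶ A := w ≫ fst A X
  let z : T ⟶ X := w ≫ snd A X
  have hz : τ' ≫ snd G X = a ≫ z := by
    have := congrArg (· ≫ snd A X) hτ'
    simpa only [Ψ, z, Category.assoc, lift_snd] using this
  have hv : τ' ≫ α = a ≫ v := by
    have := congrArg (· ≫ fst A X) hτ'
    simpa only [Ψ, v, Category.assoc, lift_fst] using this
  let B : Over (Spec (CommRingCat.of C)) := Red.bc T.hom G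
  haveI : Smooth B.hom := MorphismProperty.pullback_snd (P := @Smooth) _ _ inferInstance
  let s₀ : Groth.Agent.SqLift.S₀ I ⟶ B := Over.homMk
    (pullback.lift (τ' ≫ fst G X).left mkI (Over.w (τ' ≫ fst G X))) (pullback.lift_snd _ _ _)
  obtain ⟨s, hs⟩ := Groth.Agent.SqLift.exists_lift_sq hI s₀
  let t : T ⟶ G := Over.homMk (s.left ≫ pullback.fst G.hom T.hom) (by
    rw [Category.assoc, pullback.condition, ← Category.assoc]
    exact (congrArg (· ≫ T.hom) (Over.w s)).trans (Category.id_comp _))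
  have ht : a ≫ t = τ' ≫ fst G X := by
    have h1 := congrArg (fun m : Groth.Agent.SqLift.S₀ I ⟶ B => m.left ≫ pullback.fst G.hom T.hom) hs
    have hu' : (toUnit (Groth.Agent.SqLift.S₀ I)).left = mkI :=
      (Category.comp_id _).symm.trans (Over.w (toUnit (Groth.Agent.SqLift.S₀ I)))
    simp only [Over.comp_left, Category.assoc, hu'] at h1
    exact Over.OverMorphism.ext (h1.trans (pullback.lift_fst _ _ _))
  let φ := (H ◁ (z ≫ x)) ≫ υ
  have hφ : AutFam.IsHomFamily H G φ := RepDescLib.isHomFamily_comp _ _ (z ≫ x) hA.1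
  obtain ⟨g, hg1, hg⟩ := MultSubFTLib.exists_conj_families hH I ⟨2, hI⟩ (pC ≫ (A ⊗ X).hom)
    (ψ := conjFam t φ) (ψ' := (H ◁ v) ≫ υ) (MultSubFTLib.isHomFamily_conjFam t hφ)
    (RepDescLib.isHomFamily_comp _ _ v hA.1) a rfl (by
      rw [← whiskerLeft_comp_assoc _ a v, ← hv, whiskerLeft_comp_assoc, hα]
      refine ext_pts fun Y k t' => ?_
      simp only [φ, lift_whiskerLeft_assoc, lift_conjFam, Category.assoc]
      rw [ht, reassoc_of% hz])
  refine ⟨(lift (g * t) z).left, ?_, ?_⟩
  · have e : a ≫ lift (g * t) z = τ' := by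
      rw [comp_lift, MonObj.comp_mul, hg1, _root_.one_mul, ht, ← hz, ← comp_lift, lift_fst_snd, Category.comp_id]
    exact congrArg CommaMorphism.left e
  · have e : lift (g * t) z ≫ Ψ = w := by
      rw [comp_lift, lift_snd]
      refine CartesianMonoidalCategory.hom_ext _ _ ?_ (lift_snd _ _)
      rw [lift_fst]
      obtain ⟨b, -, hu⟩ := hA.2 T ((H ◁ v) ≫ υ) (RepDescLib.isHomFamily_comp _ _ v hA.1)
      refine (hu _ ?_).trans (hu v rfl).symm
      beta_reduce
      rw [whiskerLeft_comp_assoc, hα]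
      refine ext_pts fun Y k t' => ?_
      rw [hg Y k t']
      simp only [φ, lift_whiskerLeft_assoc, lift_conjFam, Category.assoc, lift_fst, lift_snd_assoc, MonObj.comp_mul]
      group
    exact congrArg CommaMorphism.left e

section Field

variable {k : Type u} [Field k] {G H : Over (Spec (CommRingCat.of k))} [GrpObj G] [GrpObj H] [IsAffineHom G.hom]
  [Smooth G.hom] {i : H ⟶ G} [IsMonHom i]

/-- Orbits are closed. -/
theorem isClosed_range_orbit (hH : SGA3x.IsMultTypeFT H) {A : Over (Spec (CommRingCat.of k))} {υ : H ⊗ A ⟶ G}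
    (hA : AutFam.RepresentsHom H G A υ) [Smooth A.hom] (q : G ⟶ A)
    (hq : (H ◁ q) ≫ υ = conjFam (𝟙 G) (iX i G)) : IsClosed (Set.range q.left) := by
  rw [← isOpen_compl_iff, isOpen_iff_forall_mem_open]
  intro x hx
  let X : Over (Spec (CommRingCat.of k)) := Over.mk (A.left.fromSpecResidueField x ≫ A.hom)
  let xp : X ⟶ A := Over.homMk (A.left.fromSpecResidueField x) rfl
  obtain ⟨α, hα, -⟩ := hA.2 (G ⊗ X) (conjFam (fst G X) ((H ◁ (snd G X ≫ xp)) ≫ υ))
    (MultSubFTLib.isHomFamily_conjFam _ (RepDescLib.isHomFamily_comp _ _ _ hA.1))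
  haveI := smooth_act hH hA xp α hα
  haveI : UniversallyOpen X.hom := Groth.Agent.GrpField.universallyOpen_field _
  have hop : IsOpenMap α.left := by
    rw [show α.left = (lift α (snd G X)).left ≫ (fst A X).left by rw [← Over.comp_left, lift_fst]]
    haveI : UniversallyOpen (fst A X).left := MorphismProperty.pullback_fst (P := @UniversallyOpen) A.hom X.hom ‹_›
    rw [Scheme.Hom.comp_base, TopCat.coe_comp]
    exact (fst A X).left.isOpenMap.comp (lift α (snd G X)).left.isOpenMap
  refine ⟨Set.range α.left, ?_, hop.isOpen_range, ?_⟩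
  · rintro y ⟨w, rfl⟩ ⟨g, hg⟩
    obtain ⟨p, -, -⟩ := Scheme.Pullback.exists_preimage_pullback (f := α.left) (g := q.left) w g hg.symm
    let T : Over (Spec (CommRingCat.of k)) := Over.mk (pullback.fst α.left q.left ≫ (G ⊗ X).hom)
    let a : T ⟶ G ⊗ X := Over.homMk (pullback.fst α.left q.left) rfl
    let b : T ⟶ G := Over.homMk (pullback.snd α.left q.left) (by
      show pullback.snd _ _ ≫ G.hom = pullback.fst _ _ ≫ (G ⊗ X).hom
      rw [← Over.w q, ← pullback.condition_assoc, Over.w α])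
    have hab : a ≫ α = b ≫ q := Over.OverMorphism.ext pullback.condition
    let s : T ⟶ X := a ≫ snd G X
    let c : T ⟶ G := (a ≫ fst G X)⁻¹ * b
    have key : s ≫ xp = c ≫ q := by
      obtain ⟨d, -, hu⟩ := hA.2 T ((H ◁ (c ≫ q)) ≫ υ) (RepDescLib.isHomFamily_comp _ _ _ hA.1)
      refine (hu _ ?_).trans (hu _ rfl).symm
      have e := congrArg (fun m => (H ◁ m) ≫ υ) hab
      simp only [whiskerLeft_comp_assoc, hα, hq, whisker_conj, Category.comp_id] at e
      refine ext_pts fun Y k t' => ?_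
      have e1 := congrArg (lift k t' ≫ ·) e
      simp only [lift_whiskerLeft_assoc, lift_conjFam, lift_iX, Category.assoc] at e1
      rw [whiskerLeft_comp_assoc _ c q, hq, whisker_conj, Category.comp_id, lift_conjFam, lift_iX,
        lift_whiskerLeft_assoc]
      simp only [s, c, Category.assoc, MonObj.comp_mul, GrpObj.comp_inv]
      refine Eq.trans ?_ ((congrArg (fun m => (t' ≫ a ≫ fst G X)⁻¹ * m * (t' ≫ a ≫ fst G X)) e1).trans ?_) <;> group
    refine hx ⟨c.left p, ?_⟩
    have e2 := congrArg (fun m : T ⟶ A => m.left p) key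
    simp only [Over.comp_left, Scheme.Hom.comp_apply] at e2
    rw [← e2]
    have : A.left.fromSpecResidueField x (s.left p) ∈ Set.range (A.left.fromSpecResidueField x) := ⟨_, rfl⟩
    rw [Scheme.range_fromSpecResidueField] at this
    exact this
  · obtain ⟨d, -, hu⟩ := hA.2 X ((H ◁ xp) ≫ υ) (RepDescLib.isHomFamily_comp _ _ _ hA.1)
    have e : lift (1 : X ⟶ G) (𝟙 X) ≫ α = xp := by
      refine (hu _ ?_).trans (hu xp rfl).symm
      beta_reduce
      rw [whiskerLeft_comp_assoc, hα]
      refine ext_pts fun Y k t' => ?_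
      simp only [lift_whiskerLeft_assoc, lift_conjFam, Category.assoc, lift_fst, lift_snd_assoc, MonObj.comp_one,
        one_mul, inv_one, mul_one, Category.id_comp]
    haveI : Nonempty X.left := inferInstanceAs (Nonempty (Spec (A.left.residueField x)))
    let pt : X.left := Classical.arbitrary _
    refine ⟨(lift (1 : X ⟶ G) (𝟙 X)).left pt, ?_⟩
    have e2 := congrArg (fun m : X ⟶ A => m.left pt) e
    simp only [Over.comp_left, Scheme.Hom.comp_apply] at e2
    rw [e2]
    have : A.left.fromSpecResidueField x pt ∈ Set.range (A.left.fromSpecResidueField x) := ⟨_, rfl⟩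
    rw [Scheme.range_fromSpecResidueField] at this
    exact this

/-- Over a field the orbit of a homomorphism out of a finite group of multiplicative type is affine. -/
theorem exists_affine_orbit (hH : SGA3x.IsMultTypeFT H) [IsFinite H.hom] {Z : Over (Spec (CommRingCat.of k))} [GrpObj Z]
    {j : Z ⟶ G} (hj : Red.IsCentralizerOf i j) :
    ∃ (Q : Over (Spec (CommRingCat.of k))) (q : G ⟶ Q), IsAffine Q.left ∧ Smooth q.left ∧ Surjective q.left ∧
      ∀ {T : Over (Spec (CommRingCat.of k))} (a b : T ⟶ G), a ≫ q = b ≫ q ↔ ∃ z : T ⟶ Z, z ≫ j = a⁻¹ * b := by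
  obtain ⟨A, υ, hA, hs, hsep, hqa⟩ := exists_hom_scheme H G hH inferInstance inferInstance
  obtain ⟨A', υ', hA', haff, -, -⟩ := Groth.Agent.S6064.result H G hH
  haveI := hs
  haveI := hsep
  haveI := haff
  haveI := hj.2.1
  haveI : IsAffine A.left := by
    obtain ⟨f, hf, -⟩ := hA.2 A' υ' hA'.1
    obtain ⟨g, hg, -⟩ := hA'.2 A υ hA.1
    haveI : IsIso f := ⟨g, by
      obtain ⟨w, -, hu⟩ := hA'.2 A' υ' hA'.1
      refine (hu _ ?_).trans (hu _ ?_).symm <;> beta_reduce
      · rw [whiskerLeft_comp_assoc, hg, hf]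
      · rw [MonoidalCategory.whiskerLeft_id, Category.id_comp], by
      obtain ⟨w, -, hu⟩ := hA.2 A υ hA.1
      refine (hu _ ?_).trans (hu _ ?_).symm <;> beta_reduce
      · rw [whiskerLeft_comp_assoc, hf, hg]
      · rw [MonoidalCategory.whiskerLeft_id, Category.id_comp]⟩
    haveI : IsIso f.left := inferInstanceAs (IsIso ((Over.forget _).map f))
    haveI : IsAffine A'.left := isAffine_of_isAffineHom A'.hom
    exact IsAffine.of_isIso (inv f.left)
  obtain ⟨q, hq, -⟩ := hA.2 G _ (isHomFamily_conj i (𝟙 G))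
  haveI := smooth_orbit_hom i hH hA q hq
  have hiff : ∀ {T : Over (Spec (CommRingCat.of k))} (a b : T ⟶ G), a ≫ q = b ≫ q ↔ ∃ z : T ⟶ Z, z ≫ j = a⁻¹ * b := by
    intro T a b
    have key : ∀ c : T ⟶ G, (H ◁ (c ≫ q)) ≫ υ = conjFam c (iX i T) := fun c => by
      rw [whiskerLeft_comp_assoc, hq, whisker_conj, Category.comp_id]
    rw [← conj_eq_iff i hj, ← key a, ← key b]
    refine ⟨fun e => by rw [e], fun e => ?_⟩
    obtain ⟨w, -, hu⟩ := hA.2 T ((H ◁ (a ≫ q)) ≫ υ) (RepDescLib.isHomFamily_comp _ _ _ hA.1)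
    exact (hu _ rfl).trans (hu _ e.symm).symm
  obtain ⟨Q, q', m, hQ, hsm, -, -, ho, hm⟩ := exists_quotient_of_orbit j hqa q hiff
  haveI := ho
  haveI := hQ.1
  haveI : Mono m := Over.mono_of_mono_left _
  haveI : IsClosedImmersion m.left := IsClosedImmersion.of_isPreimmersion _ (by
    have := isClosed_range_orbit hH hA q hq
    rwa [← hm, Over.comp_left, Scheme.Hom.comp_base, TopCat.coe_comp, q'.left.surjective.range_comp] at this)
  exact ⟨Q, q', isAffine_of_isAffineHom m.left, hsm, hQ.1, fun a b => by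
    rw [← hiff, ← cancel_mono m, Category.assoc, Category.assoc, hm]⟩

end Field

end MultSubQuotLib
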