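import Groth.Agent.MultSubQuotLib.Orbit

/-!
The quotients of a smooth affine group by the centralizer and by the normalizer of a subgroup of multiplicative type.
-/

set_option autoImplicit false
set_option backward.isDefEq.respectTransparency false
set_option linter.style.haveILetI false
set_option synthInstance.maxHeartbeats 400000

noncomputable section

universe u

open CategoryTheory CategoryTheory.Limits MonoidalCategory CartesianMonoidalCategory AlgebraicGeometry
open scoped MonObj

attribute [-instance] CategoryTheory.Hom.commGroup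

namespace MultSubQuotLib

open MultSubLib (Tri famTri FamMono famTri_congr)
open MultSubFTLib (MM conjFam)

variable {S : Scheme.{u}} {G H : Over S} [GrpObj G] [GrpObj H]

/-- A quotient by a subgroup with smooth projection, with the description of its fibres. -/
structure Quot {N : Over S} [GrpObj N] (n : N ⟶ G) where
  Q : Over S
  q : G ⟶ Q
  isQuotient : RedSub.IsQuotient n q
  smooth_q : Smooth q.left
  smooth : Smooth Q.hom
  qa : Mor2.IsQuasiAffine Q.hom
  sep : IsSeparated Q.hom
  iff : ∀ {T : Over S} (a b : T ⟶ G), a ≫ q = b ≫ q ↔ ∃ z : T ⟶ N, z ≫ n = a⁻¹ * b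

theorem nonempty_quot {N X : Over S} [GrpObj N] (n : N ⟶ G) [Mono n]
    [Smooth G.hom] [QuasiCompact G.hom] [IsSeparated X.hom] (hX : MoreMor.IsIndQuasiAffineHom X.hom) (q : G ⟶ X)
    [Smooth q.left] (hiff : ∀ {T : Over S} (a b : T ⟶ G), a ≫ q = b ≫ q ↔ ∃ z : T ⟶ N, z ≫ n = a⁻¹ * b) :
    Nonempty (Quot n) := by
  obtain ⟨Q, q', m, h1, h2, h3, h4, h5, h6⟩ := exists_quotient_of_orbit n hX q hiff
  haveI := h5
  haveI : Mono m := Over.mono_of_mono_left _
  exact ⟨⟨Q, q', h1, h2, h3, h4, by rw [← Over.w m]; infer_instance, fun a b => by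
    rw [← hiff, ← cancel_mono m, Category.assoc, Category.assoc, h6]⟩⟩

variable [IsAffineHom G.hom] [Smooth G.hom] (hH : SGA3x.IsMultTypeFT H) (i : H ⟶ G) [IsMonHom i]

include hH in
theorem nonempty_quot_centralizer {Z : Over S} [GrpObj Z] {j : Z ⟶ G} (hj : Red.IsCentralizerOf i j) :
    Nonempty (Quot j) := by
  obtain ⟨A, υ, hA, hs, hsep, hqa⟩ := exists_hom_scheme H G hH inferInstance inferInstance
  haveI := hs
  haveI := hsep
  haveI := hj.2.1
  obtain ⟨q, hq, -⟩ := hA.2 G _ (isHomFamily_conj i (𝟙 G))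
  haveI := smooth_orbit_hom i hH hA q hq
  refine nonempty_quot j hqa q fun {T} a b => ?_
  have key : ∀ c : T ⟶ G, (H ◁ (c ≫ q)) ≫ υ = conjFam c (iX i T) := fun c => by
    rw [whiskerLeft_comp_assoc, hq, whisker_conj, Category.comp_id]
  rw [← conj_eq_iff i hj, ← key a, ← key b]
  refine ⟨fun e => by rw [e], fun e => ?_⟩
  obtain ⟨w, -, hu⟩ := hA.2 T ((H ◁ (a ≫ q)) ≫ υ) (RepDescLib.isHomFamily_comp _ _ _ hA.1)
  exact (hu _ rfl).trans (hu _ e.symm).symm

include hH in
theorem nonempty_quot_normalizer [Mono i] {N : Over S} [GrpObj N] {n : N ⟶ G} (hn : Red.IsNormalizerOf i n) :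
    Nonempty (Quot n) := by
  obtain ⟨K, hK, j, V, -, -, -, -, hV⟩ := MultSubFTLib.exists_univ G
  haveI := hn.2.1
  obtain ⟨q, hq⟩ := exists_cls hV hH (conjFam (𝟙 G) (iX i G)) (isHomFamily_conj i _) (famMono_conj i _)
  haveI := smooth_orbit_MM i hH hV q hq
  haveI := MultSubFTLib.separated_MM G
  refine nonempty_quot n indQA_MM q fun {T} a b => ?_
  have key : ∀ c : T ⟶ G, Tri.Same (famTri (conjFam c (iX i T)) (isHomFamily_conj i c) (famMono_conj i c))
      (V.pull (c ≫ q).left) := fun c =>
    (famTri_congr (by rw [whisker_conj, Category.comp_id]) (isHomFamily_conj i c) (famMono_conj i c)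
      (RepDescLib.isHomFamily_comp _ _ c (isHomFamily_conj i _)) ((famMono_conj i _).comp c)).trans (cls_comp hq c)
  rw [cls_eq_iff hV (key a) (key b)]
  exact same_conj_iff i hn a b

end MultSubQuotLib
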